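import Mathlib.Algebra.BigOperators.Ring.Finset
import Mathlib.Algebra.Order.BigOperators.Ring.Finset
import Mathlib.Data.Fintype.Card
import Mathlib.Tactic.Linarith
import Mathlib.Tactic.Ring
import Mathlib.Data.Fintype.BigOperators

/-!
# Integer vectors with Gram matrix `1 + e`
-/

set_option autoImplicit false

namespace Cfsg.Agent.SmallGroups.SelfCent

variable {ι O : Type*} [Fintype ι] [DecidableEq ι]

/-- An integer vector of square norm `2` orthogonal to positive weights is a difference of two
unit vectors of equal weight. -/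
theorem exists_pair_of_norm_two (w : ι → ℤ) (hw : ∀ x, 0 < w x) (d : ι → ℤ)
    (h2 : ∑ x, d x * d x = 2) (h0 : ∑ x, w x * d x = 0) :
    ∃ a b, a ≠ b ∧ w a = w b ∧
      ∀ x, d x = (if x = a then 1 else 0) - (if x = b then 1 else 0) := by
  have hsmall : ∀ x, d x = 0 ∨ d x = 1 ∨ d x = -1 := by
    intro x
    have h := Finset.single_le_sum (f := fun x => d x * d x) (fun y _ => mul_self_nonneg (d y))
      (Finset.mem_univ x)
    rw [h2] at h
    have hlo : -1 ≤ d x := by nlinarith
    have hhi : d x ≤ 1 := by nlinarith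
    omega
  set S := Finset.univ.filter fun x => d x ≠ 0 with hS
  have hcard : S.card = 2 := by
    have h1 : ∑ x, d x * d x = ∑ x ∈ S, (1 : ℤ) := by
      rw [← Finset.sum_filter_of_ne (p := fun x => d x ≠ 0) (fun x _ hx h => hx (by simp [h]))]
      refine Finset.sum_congr rfl fun x hx => ?_
      rcases hsmall x with h | h | h
      · exact absurd h (Finset.mem_filter.mp hx).2
      · simp [h]
      · simp [h]
    rw [h2, Finset.sum_const, nsmul_eq_mul, mul_one] at h1
    exact_mod_cast h1.symm
  obtain ⟨a, b, hab, hSab⟩ := Finset.card_eq_two.mp hcard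
  have hzero : ∀ x, x ≠ a → x ≠ b → d x = 0 := by
    intro x hxa hxb
    by_contra h
    have : x ∈ S := Finset.mem_filter.mpr ⟨Finset.mem_univ _, h⟩
    rw [hSab] at this
    simp [hxa, hxb] at this
  have hsum : w a * d a + w b * d b = 0 := by
    rw [← h0, ← Finset.sum_pair (f := fun x => w x * d x) hab]
    refine Finset.sum_subset (Finset.subset_univ _) fun x _ hx => ?_
    simp only [Finset.mem_insert, Finset.mem_singleton, not_or] at hx
    rw [hzero x hx.1 hx.2, mul_zero]
  have ha0 : d a ≠ 0 := by
    have : a ∈ S := by rw [hSab]; simp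
    exact (Finset.mem_filter.mp this).2
  have hb0 : d b ≠ 0 := by
    have : b ∈ S := by rw [hSab]; simp
    exact (Finset.mem_filter.mp this).2
  have hwa := hw a
  have hwb := hw b
  have key : ∀ a b : ι, a ≠ b → d a = 1 → d b = -1 → w a = w b →
      (∀ x, x ≠ a → x ≠ b → d x = 0) →
      ∀ x, d x = (if x = a then 1 else 0) - (if x = b then 1 else 0) := by
    intro a b hab h1 h2 _ hz x
    by_cases hxa : x = a
    · subst hxa; simp [h1, hab]
    · by_cases hxb : x = b
      · subst hxb; simp [h2, hxa]
      · simp [hxa, hxb, hz x hxa hxb]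
  rcases hsmall a with h | h | h
  · exact absurd h ha0
  · rcases hsmall b with h' | h' | h'
    · exact absurd h' hb0
    · rw [h, h'] at hsum; linarith
    · rw [h, h'] at hsum
      exact ⟨a, b, hab, by linarith, key a b hab h h' (by linarith) hzero⟩
  · rcases hsmall b with h' | h' | h'
    · exact absurd h' hb0
    · rw [h, h'] at hsum
      exact ⟨b, a, hab.symm, by linarith,
        key b a hab.symm h' h (by linarith) fun x hx hx' => hzero x hx' hx⟩
    · rw [h, h'] at hsum; linarith

variable [Fintype O] [DecidableEq O]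

/-- Structure of integer vectors with Gram matrix `1 + e`, orthogonal to positive weights. -/
theorem exists_exceptional [Nontrivial O] (w : ι → ℤ) (hw : ∀ x, 0 < w x) (v : O → ι → ℤ) (e : ℤ)
    (hgram : ∀ i j, ∑ x, v i x * v j x = (if i = j then 1 else 0) + e)
    (hdeg : ∀ i, ∑ x, w x * v i x = 0) :
    ∃ (ε : ℤ) (f : O → ι) (c : ι → ℤ) (d b : ℤ), (ε = 1 ∨ ε = -1) ∧ Function.Injective f ∧
      (∀ i x, v i x = c x + if x = f i then ε else 0) ∧ (∀ i, c (f i) = d) ∧
      (∀ i, w (f i) = b) ∧ (∑ x, c x * c x) + 2 * ε * d = e ∧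
      (∑ x, w x * c x) + ε * b = 0 := by
  obtain ⟨i₀⟩ : Nonempty O := inferInstance
  -- the differences
  have hd : ∀ i, i ≠ i₀ → ∃ a b, a ≠ b ∧ w a = w b ∧
      ∀ x, v i₀ x - v i x = (if x = a then 1 else 0) - (if x = b then 1 else 0) := by
    intro i hi
    refine exists_pair_of_norm_two w hw _ ?_ ?_
    · have : ∀ x, (v i₀ x - v i x) * (v i₀ x - v i x) =
          v i₀ x * v i₀ x - 2 * (v i₀ x * v i x) + v i x * v i x := fun x => by ring
      simp only [this, Finset.sum_add_distrib, Finset.sum_sub_distrib, ← Finset.mul_sum, hgram,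
        if_true, if_neg (Ne.symm hi)]
      ring
    · simp only [mul_sub, Finset.sum_sub_distrib, hdeg, sub_self]
  choose A B hAB hwAB hdiff using hd
  -- two differences share exactly one end
  have hshare : ∀ i (hi : i ≠ i₀) j (hj : j ≠ i₀), i ≠ j →
      (A i hi = A j hj ∧ B i hi ≠ B j hj) ∨ (B i hi = B j hj ∧ A i hi ≠ A j hj) := by
    intro i hi j hj hij
    have h1 : ∑ x, (v i₀ x - v i x) * (v i₀ x - v j x) = 1 := by
      simp only [mul_sub, sub_mul, Finset.sum_sub_distrib, hgram]
      simp [hij, hi, Ne.symm hj]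
    simp only [hdiff i hi, hdiff j hj, mul_sub, sub_mul, Finset.sum_sub_distrib,
      mul_ite, mul_one, mul_zero, Finset.sum_ite_eq', Finset.mem_univ, if_true] at h1
    by_cases hA : A i hi = A j hj
    · refine Or.inl ⟨hA, fun hB => ?_⟩
      have hne : A j hj ≠ B j hj := hAB j hj
      simp [hA, hB, hne, hne.symm] at h1
    · refine Or.inr ⟨?_, hA⟩
      by_contra hB
      have hA' : A j hj ≠ A i hi := fun h => hA h.symm
      have hB' : B j hj ≠ B i hi := fun h => hB h.symm
      simp only [if_neg hA, if_neg hB, if_neg hA', if_neg hB'] at h1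
      split_ifs at h1 <;> omega
  obtain ⟨i₁, hi₁⟩ := exists_ne i₀
  -- all share the same side
  have hside : (∀ i hi, A i hi = A i₁ hi₁) ∨ (∀ i hi, B i hi = B i₁ hi₁) := by
    by_contra hcon
    rw [not_or] at hcon
    push_neg at hcon
    obtain ⟨⟨j, hj, hjA⟩, ⟨k, hk, hkB⟩⟩ := hcon
    have hj1 : j ≠ i₁ := fun h => hjA (by subst h; rfl)
    have hk1 : k ≠ i₁ := fun h => hkB (by subst h; rfl)
    have h1 := (hshare j hj i₁ hi₁ hj1).resolve_left fun h => hjA h.1
    have h2 := (hshare k hk i₁ hi₁ hk1).resolve_right fun h => hkB h.1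
    have hjk : j ≠ k := fun h => by subst h; exact hjA h2.1
    rcases hshare j hj k hk hjk with h | h
    · exact hjA (h.1.trans h2.1)
    · exact hkB (h.1.symm.trans h1.1)
  -- the exceptional index map
  obtain ⟨ε, f, hε, hf⟩ : ∃ (ε : ℤ) (f : O → ι), (ε = 1 ∨ ε = -1) ∧
      ∀ i x, v i₀ x - v i x = ε * ((if x = f i₀ then 1 else 0) - (if x = f i then 1 else 0)) := by
    rcases hside with h | h
    · refine ⟨1, fun i => if hi : i = i₀ then A i₁ hi₁ else B i hi, Or.inl rfl, fun i x => ?_⟩
      by_cases hi : i = i₀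
      · subst hi; simp
      · simp [hi, hdiff i hi, h i hi]
    · refine ⟨-1, fun i => if hi : i = i₀ then B i₁ hi₁ else A i hi, Or.inr rfl, fun i x => ?_⟩
      by_cases hi : i = i₀
      · subst hi; simp
      · simp [hi, hdiff i hi, h i hi]
  have hεsq : ε * ε = 1 := by rcases hε with rfl | rfl <;> rfl
  set c : ι → ℤ := fun x => v i₀ x - ε * (if x = f i₀ then 1 else 0) with hc
  have hv : ∀ i x, v i x = c x + if x = f i then ε else 0 := by
    intro i x
    have := hf i x
    simp only [hc]
    split_ifs at this ⊢ <;> linarith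
  have hinj : Function.Injective f := by
    intro i j hij
    by_contra hne
    have h1 := hgram i i
    have h2 := hgram i j
    have hvij : ∀ x, v j x = v i x := fun x => by rw [hv, hv, hij]
    simp only [hvij, if_true, if_neg hne] at h1 h2
    linarith
  have hsum : ∀ i j, (∑ x, c x * c x) + ε * c (f i) + ε * c (f j) +
      (if i = j then 1 else 0) = (if i = j then 1 else 0) + e := by
    intro i j
    rw [← hgram i j]
    simp only [hv, mul_add, add_mul, Finset.sum_add_distrib, mul_ite, ite_mul, mul_zero, zero_mul,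
      Finset.sum_ite_eq', Finset.mem_univ, if_true, hεsq]
    rcases eq_or_ne i j with hij | hij
    · subst hij; simp; ring
    · simp [hij, hinj.ne hij, hinj.ne (Ne.symm hij)]; ring
  refine ⟨ε, f, c, c (f i₀), w (f i₀), hε, hinj, hv, fun i => ?_, fun i => ?_, ?_, ?_⟩
  · have h1 := hsum i i
    have h2 := hsum i₀ i₀
    rw [if_pos rfl] at h1 h2
    rcases hε with rfl | rfl <;> linarith
  · rcases eq_or_ne i i₀ with rfl | hi
    · rfl
    have h := hdeg i
    have h' := hdeg i₀
    simp only [hv, mul_add, Finset.sum_add_distrib, mul_ite, mul_zero, Finset.sum_ite_eq',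
      Finset.mem_univ, if_true] at h h'
    rcases hε with rfl | rfl <;> linarith
  · have h2 := hsum i₀ i₀
    rw [if_pos rfl] at h2
    linarith
  · have h' := hdeg i₀
    simp only [hv, mul_add, Finset.sum_add_distrib, mul_ite, mul_zero, Finset.sum_ite_eq',
      Finset.mem_univ, if_true] at h'
    linarith

end Cfsg.Agent.SmallGroups.SelfCent
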