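import Cfsg.Agent.Lib.SmallGroups.SelfCent.Phi
import Cfsg.Agent.Lib.SmallGroups.SelfCent.Gram
import Cfsg.Agent.Lib.SmallGroups.Action

/-!
# Exceptional characters
-/

set_option autoImplicit false
set_option maxHeartbeats 400000

open scoped ComplexConjugate

namespace Cfsg.Agent.SmallGroups.SelfCent

open Subgroup

theorem stdAddChar_sum_erase {p : ℕ} [Fact p.Prime] {k : ZMod p} (hk : k ≠ 0) :
    ∑ r ∈ Finset.univ.erase (0 : ZMod p), (ZMod.stdAddChar (r * k) : ℂ) = -1 := by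
  have h := sum_stdAddChar (p := p) k
  rw [if_neg hk, ← Finset.add_sum_erase _ _ (Finset.mem_univ (0 : ZMod p)), zero_mul,
    AddChar.map_zero_eq_one] at h
  exact (eq_neg_iff_add_eq_zero.mpr (by rw [add_comm]; exact h))

namespace Setup

variable {G : Type*} [Group G] [Fintype G] {p : ℕ} [hp : Fact p.Prime] (s : Setup G p)

/-- The `auto`-orbits of nontrivial linear characters. -/
abbrev Orb : Type := (ZMod p)ˣ ⧸ s.auto

/-- The vector indexed by orbits. -/
noncomputable def vecO (χ : Cfsg.IrrCharacter G) (o : s.Orb) : ℤ :=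
  s.vec χ ((Quotient.out o : (ZMod p)ˣ) : ZMod p)

theorem vec_eq_vecO (χ : Cfsg.IrrCharacter G) (r : (ZMod p)ˣ) :
    s.vec χ (r : ZMod p) = s.vecO χ (r : s.Orb) := by
  obtain ⟨⟨a, ha⟩, h⟩ := QuotientGroup.mk_out_eq_mul s.auto r
  rw [vecO, show (Quotient.out (r : s.Orb)) = r * a from h, Units.val_mul, s.vec_mul_auto χ ha]

theorem gram_orb [DecidableEq s.Orb] (i j : s.Orb) :
    ∑ χ : Cfsg.IrrCharacter G, s.vecO χ i * s.vecO χ j =
      (if i = j then 1 else 0) + (Nat.card s.auto : ℤ) := by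
  classical
  simp only [vecO]
  rw [s.sum_vec_mul (Units.ne_zero _) (Units.ne_zero _)]
  congr 1
  refine if_congr ?_ rfl rfl
  constructor
  · rintro ⟨a, ha, h⟩
    rw [← Units.val_mul] at h
    have h1 : (((Quotient.out i : (ZMod p)ˣ)) : s.Orb) = ((Quotient.out j : (ZMod p)ˣ) : s.Orb) := by
      rw [QuotientGroup.eq, Units.ext h]
      simpa using ha
    simpa using h1
  · rintro rfl
    exact ⟨1, one_mem _, by simp⟩

theorem card_orb_mul : Nat.card s.Orb * Nat.card s.auto = p - 1 := by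
  rw [← ZMod.card_units p, ← Nat.card_eq_fintype_card]
  exact (s.auto.card_eq_card_quotient_mul_card_subgroup).symm

/-- The degree of an irreducible character. -/
noncomputable def deg (χ : Cfsg.IrrCharacter G) : ℕ :=
  (CharClifford.exists_degree_dvd_card χ.2).choose

omit hp in
theorem deg_spec (χ : Cfsg.IrrCharacter G) :
    0 < deg χ ∧ deg χ ∣ Nat.card G ∧ (χ : G → ℂ) 1 = (deg χ : ℂ) :=
  (CharClifford.exists_degree_dvd_card χ.2).choose_spec

theorem sum_deg_mul_vecO (o : s.Orb) :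
    ∑ χ : Cfsg.IrrCharacter G, (deg χ : ℤ) * s.vecO χ o = 0 := by
  apply Int.cast_injective (α := ℂ)
  push_cast
  rw [← s.sum_vec_mul_degree ((Quotient.out o : (ZMod p)ˣ) : ZMod p)]
  exact Finset.sum_congr rfl fun χ _ => by rw [vecO, (deg_spec χ).2.2]

/-- Summing an `auto`-invariant function on the units. -/
theorem sum_units_eq {M : Type*} [AddCommMonoid M] (F : s.Orb → M) [Fintype s.Orb] :
    ∑ r : (ZMod p)ˣ, F (r : s.Orb) = Nat.card s.auto • ∑ o : s.Orb, F o := by
  classical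
  have := Fintype.ofFinite s.auto
  rw [← Fintype.sum_equiv (Subgroup.groupEquivQuotientProdSubgroup (s := s.auto)).symm
    (fun x => F x.1) (fun r => F (r : s.Orb)) fun x => ?_]
  · rw [Fintype.sum_prod_type]
    simp only [Finset.sum_const, Finset.card_univ, ← Nat.card_eq_fintype_card]
    rw [← Finset.smul_sum]
  · obtain ⟨r, hr⟩ := (Subgroup.groupEquivQuotientProdSubgroup (s := s.auto)).surjective x
    rw [← hr, Equiv.symm_apply_apply]
    rfl

/-- The trivial character. -/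
noncomputable def triv : Cfsg.IrrCharacter G := ⟨1, CharCore.isIrrCharacter_one⟩

theorem vecO_triv (o : s.Orb) : s.vecO triv o = -1 := s.vec_trivial (Units.ne_zero _)

omit hp in
theorem deg_triv : deg (triv : Cfsg.IrrCharacter G) = 1 := by
  have h := (deg_spec (triv : Cfsg.IrrCharacter G)).2.2
  simp only [triv, Pi.one_apply] at h
  exact_mod_cast h.symm

/-- The dimension of the `K`-fixed part. -/
theorem exists_fix (χ : Cfsg.IrrCharacter G) [Fintype s.Orb] :
    ∃ n : ℕ, s.phi (χ : G → ℂ) 0 = n ∧ n ≤ deg χ ∧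
      (n : ℤ) ≡ (Nat.card s.auto : ℤ) * ∑ o, s.vecO χ o [ZMOD p] := by
  classical
  choose a ha using fun r => s.mult_eq_natCast (CharCore.irr_isCharacter χ) r
  have h0 : s.phi (χ : G → ℂ) 0 = ((∑ r, a r : ℕ) : ℂ) := by
    rw [s.phi_eq_sum_mult, Nat.cast_sum]
    exact Finset.sum_congr rfl fun r _ => by rw [mul_zero, AddChar.map_zero_eq_one, mul_one, ha]
  refine ⟨∑ r, a r, h0, ?_, ?_⟩
  · have h1 : ‖s.phi (χ : G → ℂ) 0‖ ≤ (deg χ : ℝ) := by
      rw [phi, norm_mul, norm_inv, Complex.norm_natCast]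
      have hb : ‖∑ w ∈ s.kset, (χ : G → ℂ) (s.zp 0 * w)‖ ≤ (s.kset.card : ℝ) * deg χ := by
        refine (norm_sum_le _ _).trans ?_
        rw [← nsmul_eq_mul]
        refine Finset.sum_le_card_nsmul _ _ _ fun w _ => ?_
        obtain ⟨m, ρ, hρ, hχ⟩ := χ.2
        rw [← hχ]
        refine (CharCore.norm_character_le ρ _).trans (le_of_eq ?_)
        have h1 : (χ : G → ℂ) 1 = (deg χ : ℂ) := (deg_spec χ).2.2
        rw [← hχ, ρ.char_one] at h1
        exact_mod_cast h1
      have hpos : (0 : ℝ) < s.kset.card := by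
        rw [card_kset]; exact_mod_cast Nat.card_pos
      rw [inv_mul_le_iff₀ hpos]
      exact hb
    rw [h0, Complex.norm_natCast] at h1
    exact_mod_cast h1
  · have hv : ∀ r, (s.vec χ r : ℤ) = (a r : ℤ) - a 0 := by
      intro r
      apply Int.cast_injective (α := ℂ)
      rw [vec_spec, vecC_eq_sub, ha, ha]; push_cast; rfl
    have hsum : (Nat.card s.auto : ℤ) * ∑ o, s.vecO χ o = ∑ r : ZMod p, s.vec χ r := by
      rw [← nsmul_eq_mul, ← s.sum_units_eq (fun o => s.vecO χ o),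
        ← Finset.add_sum_erase _ _ (Finset.mem_univ (0 : ZMod p)), hv 0, sub_self, zero_add]
      refine Finset.sum_nbij (fun r : (ZMod p)ˣ => (r : ZMod p))
        (fun r _ => Finset.mem_erase.mpr ⟨r.ne_zero, Finset.mem_univ _⟩)
        (fun _ _ _ _ h => Units.ext h) (fun r hr => ?_) (fun r _ => (s.vec_eq_vecO χ r).symm)
      exact ⟨Units.mk0 r (Finset.ne_of_mem_erase hr), Finset.mem_univ _, rfl⟩
    rw [hsum]
    simp only [hv, Finset.sum_sub_distrib, Finset.sum_const, Finset.card_univ, ZMod.card,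
      nsmul_eq_mul]
    push_cast
    rw [Int.modEq_iff_dvd]
    exact ⟨-(a 0 : ℤ), by ring⟩

theorem phi_zero_of_bot (hK : s.K = ⊥) (χ : Cfsg.IrrCharacter G) :
    s.phi (χ : G → ℂ) 0 = (χ : G → ℂ) 1 := by
  have : s.kset = {1} := by
    ext w; simp [mem_kset, hK]
  simp [phi, this, s.zp_zero]

theorem phi_of_const (χ : Cfsg.IrrCharacter G) (u : ℤ) (hu : ∀ o, s.vecO χ o = u)
    {k : ZMod p} (hk : k ≠ 0) : s.phi (χ : G → ℂ) k = -(u : ℂ) := by
  have hv : ∀ r : ZMod p, r ≠ 0 → s.vec χ r = u := fun r hr => by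
    have := s.vec_eq_vecO χ (Units.mk0 r hr)
    rw [Units.val_mk0] at this
    rw [this, hu]
  have hsplit : s.phi (χ : G → ℂ) k =
      ∑ r : ZMod p, (s.vec χ r : ℂ) * ZMod.stdAddChar (r * k) := by
    rw [s.phi_eq_sum_mult]
    simp only [vec_spec, vecC_eq_sub, sub_mul, Finset.sum_sub_distrib, ← Finset.mul_sum,
      sum_stdAddChar, if_neg hk, mul_zero, sub_zero]
  rw [hsplit, ← Finset.add_sum_erase _ _ (Finset.mem_univ (0 : ZMod p)),
    Finset.sum_congr rfl (g := fun r => (u : ℂ) * ZMod.stdAddChar (r * k))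
      (fun r hr => by rw [hv r (Finset.ne_of_mem_erase hr)]),
    ← Finset.mul_sum, stdAddChar_sum_erase hk]
  have h0 : (s.vec χ 0 : ℂ) = 0 := by rw [vec_spec, vecC_eq_sub, sub_self]
  rw [h0, zero_mul, zero_add, mul_neg, mul_one]

open scoped Classical in
theorem isIntegral_phi_mul_div (χ : Cfsg.IrrCharacter G) {k : ZMod p} (hk : k ≠ 0) :
    IsIntegral ℤ (((Nat.card G / p : ℕ) : ℂ) * s.phi (χ : G → ℂ) k / (χ : G → ℂ) 1) := by
  set U : Finset G := Finset.univ.filter fun x => ∃ w ∈ s.K, IsConj (s.zp k * w) x with hU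
  have hcount : ((Nat.card (centralizer ({s.z} : Set G)) : ℕ) : ℂ) * ∑ x ∈ U, (χ : G → ℂ) x =
      (Nat.card G : ℂ) * ∑ w ∈ s.kset, (χ : G → ℂ) (s.zp k * w) := by
    have hg : ∀ (g : G) (w : G), (χ : G → ℂ) (g * (s.zp k * w) * g⁻¹) = (χ : G → ℂ) (s.zp k * w) :=
      fun g w => CharCore.irr_isClassFunction χ _ g
    calc ((Nat.card (centralizer ({s.z} : Set G)) : ℕ) : ℂ) * ∑ x ∈ U, (χ : G → ℂ) x
        = ∑ x ∈ U, ∑ _y ∈ (Finset.univ ×ˢ s.kset).filter
            (fun y : G × G => y.1 * (s.zp k * y.2) * y.1⁻¹ = x), (χ : G → ℂ) x := by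
          rw [Finset.mul_sum]
          refine Finset.sum_congr rfl fun x hx => ?_
          rw [Finset.sum_const, nsmul_eq_mul]
          congr 2
          obtain ⟨w₀, hw₀, hconj⟩ := (Finset.mem_filter.mp hx).2
          obtain ⟨g₀, hg₀⟩ := isConj_iff.mp hconj
          rw [← Nat.card_eq_finsetCard]
          refine Nat.card_congr
            { toFun := fun u => ⟨(g₀ * u.1, u.1⁻¹ * w₀ * u.1), ?_⟩
              invFun := fun y => ⟨g₀⁻¹ * y.1.1, ?_⟩
              left_inv := fun u => by ext; simp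
              right_inv := fun y => ?_ }
          · have hu : Commute u.1 (s.zp k) :=
              (show Commute u.1 s.z from mem_centralizer_singleton_iff.mp u.2).pow_right _
            have hconjK : u.1⁻¹ * w₀ * u.1 ∈ s.K := by
              have h1 : u.1⁻¹ * s.zp k * u.1⁻¹⁻¹ = s.zp k := by
                rw [inv_inv, mul_assoc, ← hu.eq, inv_mul_cancel_left]
              have := s.conj_mem_K hk h1 hw₀
              rwa [inv_inv] at this
            simp only [Finset.mem_filter, Finset.mem_product, Finset.mem_univ, true_and]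
            refine ⟨s.mem_kset.mpr hconjK, ?_⟩
            rw [← hg₀]
            calc g₀ * u.1 * (s.zp k * (u.1⁻¹ * w₀ * u.1)) * (g₀ * u.1)⁻¹
                = g₀ * (u.1 * s.zp k) * u.1⁻¹ * w₀ * g₀⁻¹ := by group
              _ = g₀ * (s.zp k * u.1) * u.1⁻¹ * w₀ * g₀⁻¹ := by rw [hu.eq]
              _ = _ := by group
          · obtain ⟨hy1, hy2⟩ := Finset.mem_filter.mp y.2
            have hw := s.mem_kset.mp (Finset.mem_product.mp hy1).2
            have hy : (g₀⁻¹ * y.1.1) * (s.zp k * y.1.2) * (g₀⁻¹ * y.1.1)⁻¹ = s.zp k * w₀ := by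
              calc (g₀⁻¹ * y.1.1) * (s.zp k * y.1.2) * (g₀⁻¹ * y.1.1)⁻¹
                  = g₀⁻¹ * (y.1.1 * (s.zp k * y.1.2) * y.1.1⁻¹) * g₀ := by group
                _ = g₀⁻¹ * (g₀ * (s.zp k * w₀) * g₀⁻¹) * g₀ := by rw [hy2, hg₀]
                _ = _ := by group
            have := s.conj_zp_of_conj hw hw₀ hy
            rw [← s.centralizer_zp hk, mem_centralizer_singleton_iff]
            exact mul_inv_eq_iff_eq_mul.mp this
          · obtain ⟨⟨g, w⟩, hy⟩ := y
            obtain ⟨hy1, hy2⟩ := Finset.mem_filter.mp hy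
            have hw := s.mem_kset.mp (Finset.mem_product.mp hy1).2
            have hy' : g₀⁻¹ * g * (s.zp k * w) * (g₀⁻¹ * g)⁻¹ = s.zp k * w₀ := by
              calc g₀⁻¹ * g * (s.zp k * w) * (g₀⁻¹ * g)⁻¹
                  = g₀⁻¹ * (g * (s.zp k * w) * g⁻¹) * g₀ := by group
                _ = g₀⁻¹ * (g₀ * (s.zp k * w₀) * g₀⁻¹) * g₀ := by rw [hy2, hg₀]
                _ = _ := by group
            have hz := s.conj_zp_of_conj hw hw₀ hy'
            have hcm : g₀⁻¹ * g * s.zp k = s.zp k * (g₀⁻¹ * g) := mul_inv_eq_iff_eq_mul.mp hz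
            refine Subtype.ext (Prod.ext (by simp) ?_)
            change (g₀⁻¹ * g)⁻¹ * w₀ * (g₀⁻¹ * g) = w
            generalize g₀⁻¹ * g = q at hy' hz hcm ⊢
            have h2 : w₀ = q * w * q⁻¹ := mul_left_cancel (a := s.zp k) (by
              calc s.zp k * w₀ = q * (s.zp k * w) * q⁻¹ := hy'.symm
                _ = q * s.zp k * q⁻¹ * (q * w * q⁻¹) := by group
                _ = _ := by rw [hz])
            rw [h2]
            group
      _ = ∑ x ∈ U, ∑ y ∈ (Finset.univ ×ˢ s.kset).filter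
            (fun y : G × G => y.1 * (s.zp k * y.2) * y.1⁻¹ = x),
            (χ : G → ℂ) (s.zp k * y.2) := by
          refine Finset.sum_congr rfl fun x _ => Finset.sum_congr rfl fun y hy => ?_
          rw [← (Finset.mem_filter.mp hy).2, hg]
      _ = ∑ y ∈ Finset.univ ×ˢ s.kset, (χ : G → ℂ) (s.zp k * y.2) := by
          refine Finset.sum_fiberwise_of_maps_to (fun y hy => ?_) _
          exact Finset.mem_filter.mpr ⟨Finset.mem_univ _, y.2,
            s.mem_kset.mp (Finset.mem_product.mp hy).2, isConj_iff.mpr ⟨y.1, rfl⟩⟩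
      _ = (Nat.card G : ℂ) * ∑ w ∈ s.kset, (χ : G → ℂ) (s.zp k * w) := by
          rw [Finset.sum_product, Nat.card_eq_fintype_card]
          simp only [Finset.sum_const, Finset.card_univ, nsmul_eq_mul]
  have hp0 : (p : ℂ) ≠ 0 := Nat.cast_ne_zero.mpr hp.out.ne_zero
  have hdiv : p ∣ Nat.card G := s.orderOf_z ▸ orderOf_dvd_natCard s.z
  have hval : ((Nat.card G / p : ℕ) : ℂ) * s.phi (χ : G → ℂ) k = ∑ x ∈ U, (χ : G → ℂ) x := by
    rw [s.card_cent, ← s.card_kset] at hcount
    push_cast at hcount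
    rw [Nat.cast_div hdiv hp0, phi]
    have hk0 : (p : ℂ) * (s.kset.card : ℂ) ≠ 0 := mul_ne_zero hp0 s.card_kset_ne_zero
    generalize ∑ w ∈ s.kset, (χ : G → ℂ) (s.zp k * w) = A at hcount ⊢
    generalize ∑ x ∈ U, (χ : G → ℂ) x = B at hcount ⊢
    calc (Nat.card G : ℂ) / p * ((s.kset.card : ℂ)⁻¹ * A)
        = (Nat.card G : ℂ) * A / (p * (s.kset.card : ℂ)) := by
          rw [div_eq_mul_inv, div_eq_mul_inv, mul_inv]; ring
      _ = p * (s.kset.card : ℂ) * B / (p * (s.kset.card : ℂ)) := by rw [hcount]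
      _ = B := mul_div_cancel_left₀ B hk0
  rw [hval, ← Finset.sum_fiberwise_of_maps_to
    (t := U.image (ConjClasses.mk (α := G))) (g := ConjClasses.mk)
    (fun x hx => Finset.mem_image_of_mem _ hx), Finset.sum_div]
  refine IsIntegral.sum _ fun C hC => ?_
  obtain ⟨x, hx, rfl⟩ := Finset.mem_image.mp hC
  have hfil : U.filter (fun y => ConjClasses.mk y = ConjClasses.mk x) =
      Finset.univ.filter fun y => ConjClasses.mk y = ConjClasses.mk x := by
    ext y
    simp only [Finset.mem_filter, Finset.mem_univ, true_and, hU, and_iff_right_iff_imp]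
    intro hy
    obtain ⟨w, hw, hwx⟩ := (Finset.mem_filter.mp hx).2
    exact ⟨w, hw, hwx.trans (ConjClasses.mk_eq_mk_iff_isConj.mp hy).symm⟩
  rw [hfil, Finset.sum_congr rfl (g := fun _ => (χ : G → ℂ) x) (fun y hy => by
    obtain ⟨d, rfl⟩ := isConj_iff.mp (ConjClasses.mk_eq_mk_iff_isConj.mp
      (Finset.mem_filter.mp hy).2).symm
    exact CharCore.irr_isClassFunction χ x d), Finset.sum_const, nsmul_eq_mul]
  convert CharClifford.isIntegral_class_mul_div χ.2 x using 6
  all_goals rfl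

/-- A constant vector `u` gives `χ(1) ∣ (|G| / p) u`. -/
theorem deg_dvd_of_const [Nonempty s.Orb] (χ : Cfsg.IrrCharacter G) (u : ℤ)
    (hu : ∀ o, s.vecO χ o = u) : (deg χ : ℤ) ∣ ((Nat.card G / p : ℕ) : ℤ) * u := by
  have h := s.isIntegral_phi_mul_div χ (k := 1) one_ne_zero
  rw [s.phi_of_const χ u hu one_ne_zero, (deg_spec χ).2.2] at h
  set n : ℤ := ((Nat.card G / p : ℕ) : ℤ) * u
  have hd0 : (deg χ : ℂ) ≠ 0 := Nat.cast_ne_zero.mpr (deg_spec χ).1.ne'
  have h2 : IsIntegral ℤ ((algebraMap ℚ ℂ) ((-n : ℤ) / (deg χ : ℚ))) := by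
    rw [map_div₀, map_intCast, map_natCast]
    convert h using 1
    simp only [n, Int.cast_neg, Int.cast_mul, Int.cast_natCast]
    ring
  rw [isIntegral_algebraMap_iff (RingHom.injective _)] at h2
  obtain ⟨m, hm⟩ := IsIntegrallyClosed.algebraMap_eq_of_integral h2
  refine ⟨-m, ?_⟩
  have hq : (deg χ : ℚ) ≠ 0 := Nat.cast_ne_zero.mpr (deg_spec χ).1.ne'
  have : ((m : ℤ) : ℚ) * (deg χ : ℚ) = ((-n : ℤ) : ℚ) := by
    rw [← div_mul_cancel₀ (((-n : ℤ)) : ℚ) hq, ← hm]
    simp
  have h3 : m * (deg χ : ℤ) = -n := by exact_mod_cast this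
  linarith

/-- `|N(⟨z⟩)| = e p |K|`. -/
theorem card_normalizer :
    Nat.card (normalizer ((zpowers s.z : Subgroup G) : Set G)) =
      Nat.card s.auto * (p * Nat.card s.K) := by
  classical
  have hfib : ∀ a : s.auto, Nat.card {g : G // g * s.z * g⁻¹ = s.zp ((a : (ZMod p)ˣ) : ZMod p)} =
      p * Nat.card s.K := by
    intro a
    obtain ⟨g₀, hg₀⟩ := isConj_iff.mp ((s.mem_auto_iff a.1).mp a.2)
    rw [← s.card_cent]
    refine Nat.card_congr
      { toFun := fun g => ⟨g₀⁻¹ * g.1, ?_⟩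
        invFun := fun u => ⟨g₀ * u.1, ?_⟩
        left_inv := fun g => by ext; simp
        right_inv := fun u => by ext; simp }
    · have hg : g.1 * s.z * g.1⁻¹ = g₀ * s.z * g₀⁻¹ := g.2.trans hg₀.symm
      rw [mem_centralizer_singleton_iff]
      calc g₀⁻¹ * g.1 * s.z = g₀⁻¹ * (g.1 * s.z * g.1⁻¹) * g.1 := by group
        _ = g₀⁻¹ * (g₀ * s.z * g₀⁻¹) * g.1 := by rw [hg]
        _ = s.z * (g₀⁻¹ * g.1) := by group
    · have hu := mem_centralizer_singleton_iff.mp u.2
      rw [← hg₀]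
      calc g₀ * u.1 * s.z * (g₀ * u.1)⁻¹ = g₀ * (u.1 * s.z) * u.1⁻¹ * g₀⁻¹ := by group
        _ = g₀ * (s.z * u.1) * u.1⁻¹ * g₀⁻¹ := by rw [hu]
        _ = _ := by group
  have hmem : ∀ g : G, g ∈ normalizer ((zpowers s.z : Subgroup G) : Set G) ↔
      ∃ a : s.auto, g * s.z * g⁻¹ = s.zp ((a : (ZMod p)ˣ) : ZMod p) := by
    intro g
    constructor
    · intro hg
      obtain ⟨n, hn⟩ := ((isOfFinOrder_of_finite s.z).mem_powers_iff_mem_zpowers).mpr
        ((mem_normalizer_iff.mp hg s.z).mp (mem_zpowers s.z))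
      have hn' : g * s.z * g⁻¹ = s.zp (n : ZMod p) := by rw [s.zp_natCast]; exact hn.symm
      have hn0 : (n : ZMod p) ≠ 0 := by
        intro h0
        rw [h0, s.zp_zero, conj_eq_one_iff] at hn'
        have := s.orderOf_z
        rw [hn', orderOf_one] at this
        exact hp.out.ne_one this.symm
      exact ⟨⟨Units.mk0 _ hn0, (s.mem_auto_iff _).mpr (isConj_iff.mpr ⟨g, hn'⟩)⟩, hn'⟩
    · rintro ⟨a, ha⟩
      rw [mem_normalizer_iff]
      intro x
      have key : (zpowers s.z).map (MulAut.conj g).toMonoidHom = zpowers s.z := by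
        refine eq_of_le_of_card_ge ?_ ?_
        · rw [MonoidHom.map_zpowers, zpowers_le]
          change g * s.z * g⁻¹ ∈ _
          rw [ha]; exact pow_mem (mem_zpowers _) _
        · rw [Nat.card_congr ((zpowers s.z).equivMapOfInjective (MulAut.conj g).toMonoidHom
            (MulAut.conj g).injective).toEquiv]
      constructor
      · intro hx
        rw [← key]
        exact ⟨x, hx, rfl⟩
      · intro hx
        rw [← key] at hx
        obtain ⟨y, hy, hyx⟩ := hx
        exact (MulAut.conj g).injective hyx ▸ hy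
  have := Fintype.ofFinite s.auto
  have e : (normalizer ((zpowers s.z : Subgroup G) : Set G)) ≃
      Σ a : s.auto, {g : G // g * s.z * g⁻¹ = s.zp ((a : (ZMod p)ˣ) : ZMod p)} :=
    { toFun := fun g => ⟨((hmem g.1).mp g.2).choose, g.1, ((hmem g.1).mp g.2).choose_spec⟩
      invFun := fun x => ⟨x.2.1, (hmem _).mpr ⟨x.1, x.2.2⟩⟩
      left_inv := fun g => rfl
      right_inv := fun x => by
        have h := ((hmem x.2.1).mp ((hmem _).mpr ⟨x.1, x.2.2⟩)).choose_spec
        have ha : ((hmem x.2.1).mp ((hmem _).mpr ⟨x.1, x.2.2⟩)).choose = x.1 :=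
          Subtype.ext (Units.ext (s.zp_injective (h.symm.trans x.2.2)))
        exact Sigma.subtype_ext ha rfl }
  rw [Nat.card_congr e, Nat.card_sigma, Finset.sum_congr rfl (fun a _ => hfib a), Finset.sum_const,
    Finset.card_univ, ← Nat.card_eq_fintype_card, smul_eq_mul]

end Setup

end Cfsg.Agent.SmallGroups.SelfCent
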