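import Cfsg.Agent.Lib.SmallGroups.SelfCent.Setup

/-!
# Averages over `K`, multiplicity vectors and their Gram matrix
-/

set_option autoImplicit false

open scoped ComplexConjugate

namespace Cfsg.Agent.SmallGroups.SelfCent

open Subgroup

theorem conj_stdAddChar {p : ℕ} [NeZero p] (a : ZMod p) :
    conj (ZMod.stdAddChar a : ℂ) = ZMod.stdAddChar (-a) := by
  rw [AddChar.starComp_apply (by rw [ZMod.ringChar_zmod_n]; exact Nat.pos_of_ne_zero (NeZero.ne p))]
  exact AddChar.inv_apply _ _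

theorem sum_stdAddChar {p : ℕ} [NeZero p] (b : ZMod p) :
    ∑ k : ZMod p, (ZMod.stdAddChar (k * b) : ℂ) = if b = 0 then (p : ℂ) else 0 := by
  rw [AddChar.sum_mulShift b (ZMod.isPrimitive_stdAddChar p), ZMod.card, Nat.cast_ite, Nat.cast_zero]

theorem sum_isConj_mul_card {G : Type*} [Group G] [Fintype G] [DecidableEq G] (x : G)
    (T : Finset G) [∀ y, Decidable (IsConj x y)] :
    ∑ y ∈ T, (if IsConj x y then Nat.card (centralizer ({x} : Set G)) else 0) =
      (Finset.univ.filter fun g => g * x * g⁻¹ ∈ T).card := by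
  refine Eq.trans ?_ (Finset.card_eq_sum_card_fiberwise (f := fun g => g * x * g⁻¹) (t := T)
    (s := Finset.univ.filter fun g => g * x * g⁻¹ ∈ T)
    (fun g hg => (Finset.mem_filter.mp hg).2)).symm
  refine Finset.sum_congr rfl fun y hy => ?_
  split_ifs with hc
  · obtain ⟨d, hd⟩ := isConj_iff.mp hc
    rw [← Nat.card_eq_finsetCard]
    refine Nat.card_congr
      { toFun := fun u => ⟨d * u.1, ?_⟩
        invFun := fun g => ⟨d⁻¹ * g.1, ?_⟩
        left_inv := fun u => by ext; simp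
        right_inv := fun g => by ext; simp }
    · have hu := mem_centralizer_singleton_iff.mp u.2
      have : d * u.1 * x * (d * u.1)⁻¹ = y := by
        calc d * u.1 * x * (d * u.1)⁻¹ = d * (u.1 * x) * u.1⁻¹ * d⁻¹ := by group
          _ = d * (x * u.1) * u.1⁻¹ * d⁻¹ := by rw [hu]
          _ = d * x * d⁻¹ := by group
          _ = y := hd
      simp only [Finset.mem_filter, Finset.mem_univ, true_and]
      exact ⟨this ▸ hy, this⟩
    · have hg : g.1 * x * g.1⁻¹ = d * x * d⁻¹ := (Finset.mem_filter.mp g.2).2.trans hd.symm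
      rw [mem_centralizer_singleton_iff]
      calc d⁻¹ * g.1 * x = d⁻¹ * (g.1 * x * g.1⁻¹) * g.1 := by group
        _ = d⁻¹ * (d * x * d⁻¹) * g.1 := by rw [hg]
        _ = x * (d⁻¹ * g.1) := by group
  · symm
    rw [Finset.card_eq_zero, Finset.filter_eq_empty_iff]
    exact fun g _ hg => hc (isConj_iff.mpr ⟨g, hg⟩)

namespace Setup

variable {G : Type*} [Group G] [Fintype G] {p : ℕ} [hp : Fact p.Prime] (s : Setup G p)

open scoped Classical in
/-- The elements of `K` as a finset. -/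
noncomputable def kset : Finset G := Finset.univ.filter fun w => w ∈ s.K

omit hp in
theorem mem_kset {w : G} : w ∈ s.kset ↔ w ∈ s.K := by simp [kset]

omit hp in
theorem card_kset : s.kset.card = Nat.card s.K := by
  classical
  rw [kset, Nat.card_eq_fintype_card, Fintype.card_subtype]

omit hp in
theorem card_kset_ne_zero : (s.kset.card : ℂ) ≠ 0 := by
  rw [card_kset]
  exact Nat.cast_ne_zero.mpr Nat.card_pos.ne'

/-- The average of `f` over `z ^ k * K`. -/
noncomputable def phi (f : G → ℂ) (k : ZMod p) : ℂ :=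
  (s.kset.card : ℂ)⁻¹ * ∑ w ∈ s.kset, f (s.zp k * w)

open scoped Classical in
/-- The image `z ^ k * K`. -/
noncomputable def coset (k : ZMod p) : Finset G := s.kset.image fun w => s.zp k * w

theorem card_conj_coset {j k : ZMod p} (hj : j ≠ 0) {w : G} (hw : w ∈ s.K) [DecidableEq G]
    [Decidable (∃ a ∈ s.auto, k = j * (a : ZMod p))] :
    (Finset.univ.filter fun g => g * (s.zp j * w) * g⁻¹ ∈ s.coset k).card =
      if ∃ a ∈ s.auto, k = j * (a : ZMod p) then p * Nat.card s.K else 0 := by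
  classical
  have hset : (Finset.univ.filter fun g => g * (s.zp j * w) * g⁻¹ ∈ s.coset k) =
      Finset.univ.filter fun g => g * s.zp j * g⁻¹ = s.zp k := by
    ext g
    simp only [Finset.mem_filter, Finset.mem_univ, true_and, coset, Finset.mem_image, mem_kset]
    constructor
    · rintro ⟨w', hw', h⟩
      exact s.conj_zp_of_conj hw hw' h.symm
    · intro h
      refine ⟨g * w * g⁻¹, s.conj_mem_K hj h hw, ?_⟩
      rw [← h]; group
  rw [hset]
  split_ifs with hrel
  · obtain ⟨g₀, hg₀⟩ := isConj_iff.mp ((s.isConj_zp_iff hj).mpr hrel)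
    rw [← s.card_cent, ← s.centralizer_zp hj, ← Nat.card_eq_finsetCard]
    refine Nat.card_congr
      { toFun := fun g => ⟨g₀⁻¹ * g.1, ?_⟩
        invFun := fun u => ⟨g₀ * u.1, ?_⟩
        left_inv := fun u => by ext; simp
        right_inv := fun g => by ext; simp }
    · have hg : g.1 * s.zp j * g.1⁻¹ = g₀ * s.zp j * g₀⁻¹ :=
        (Finset.mem_filter.mp g.2).2.trans hg₀.symm
      rw [mem_centralizer_singleton_iff]
      calc g₀⁻¹ * g.1 * s.zp j = g₀⁻¹ * (g.1 * s.zp j * g.1⁻¹) * g.1 := by group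
        _ = g₀⁻¹ * (g₀ * s.zp j * g₀⁻¹) * g.1 := by rw [hg]
        _ = s.zp j * (g₀⁻¹ * g.1) := by group
    · have hu := mem_centralizer_singleton_iff.mp u.2
      simp only [Finset.mem_filter, Finset.mem_univ, true_and]
      rw [← hg₀]
      calc g₀ * u.1 * s.zp j * (g₀ * u.1)⁻¹ = g₀ * (u.1 * s.zp j) * u.1⁻¹ * g₀⁻¹ := by group
        _ = g₀ * (s.zp j * u.1) * u.1⁻¹ * g₀⁻¹ := by rw [hu]
        _ = _ := by group
  · rw [Finset.card_eq_zero, Finset.filter_eq_empty_iff]
    exact fun g _ hg => hrel ((s.isConj_zp_iff hj).mp (isConj_iff.mpr ⟨g, hg⟩))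

/-- Column orthogonality for the averages. -/
theorem sum_phi_mul_conj {j : ZMod p} (hj : j ≠ 0) (k : ZMod p)
    [Decidable (∃ a ∈ s.auto, k = j * (a : ZMod p))] :
    ∑ χ : Cfsg.IrrCharacter G, s.phi (χ : G → ℂ) j * conj (s.phi (χ : G → ℂ) k) =
      if ∃ a ∈ s.auto, k = j * (a : ZMod p) then (p : ℂ) else 0 := by
  classical
  set c : ℂ := (s.kset.card : ℂ) with hc
  have hc0 : c ≠ 0 := s.card_kset_ne_zero
  have step : ∀ w ∈ s.kset, ∑ w' ∈ s.kset, ∑ χ : Cfsg.IrrCharacter G,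
      (χ : G → ℂ) (s.zp j * w) * conj ((χ : G → ℂ) (s.zp k * w')) =
      if ∃ a ∈ s.auto, k = j * (a : ZMod p) then (p : ℂ) * c else 0 := by
    intro w hw
    have h1 : ∑ w' ∈ s.kset, ∑ χ : Cfsg.IrrCharacter G,
        (χ : G → ℂ) (s.zp j * w) * conj ((χ : G → ℂ) (s.zp k * w')) =
        ((∑ y ∈ s.coset k, if IsConj (s.zp j * w) y then
          Nat.card (centralizer ({s.zp j * w} : Set G)) else 0 : ℕ) : ℂ) := by
      rw [Nat.cast_sum, coset, Finset.sum_image (fun a _ b _ hab => mul_left_cancel hab)]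
      refine Finset.sum_congr rfl fun w' _ => ?_
      rw [CharCore.sum_apply_mul_conj]
      split_ifs <;> simp
    rw [h1, sum_isConj_mul_card, s.card_conj_coset hj (s.mem_kset.mp hw)]
    split_ifs
    · rw [hc, card_kset]; push_cast; rfl
    · simp
  have : ∑ χ : Cfsg.IrrCharacter G, s.phi (χ : G → ℂ) j * conj (s.phi (χ : G → ℂ) k) =
      c⁻¹ * c⁻¹ * ∑ w ∈ s.kset, ∑ w' ∈ s.kset, ∑ χ : Cfsg.IrrCharacter G,
        (χ : G → ℂ) (s.zp j * w) * conj ((χ : G → ℂ) (s.zp k * w')) := by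
    have h2 : ∑ w ∈ s.kset, ∑ w' ∈ s.kset, ∑ χ : Cfsg.IrrCharacter G,
        (χ : G → ℂ) (s.zp j * w) * conj ((χ : G → ℂ) (s.zp k * w')) =
        ∑ χ : Cfsg.IrrCharacter G, (∑ w ∈ s.kset, (χ : G → ℂ) (s.zp j * w)) *
          conj (∑ w' ∈ s.kset, (χ : G → ℂ) (s.zp k * w')) := by
      calc _ = ∑ w ∈ s.kset, ∑ χ : Cfsg.IrrCharacter G, ∑ w' ∈ s.kset,
            (χ : G → ℂ) (s.zp j * w) * conj ((χ : G → ℂ) (s.zp k * w')) :=
            Finset.sum_congr rfl fun w _ => Finset.sum_comm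
        _ = ∑ χ : Cfsg.IrrCharacter G, ∑ w ∈ s.kset, ∑ w' ∈ s.kset,
            (χ : G → ℂ) (s.zp j * w) * conj ((χ : G → ℂ) (s.zp k * w')) := Finset.sum_comm
        _ = _ := Finset.sum_congr rfl fun χ _ => by rw [map_sum, Finset.sum_mul_sum]
    rw [h2, Finset.mul_sum]
    refine Finset.sum_congr rfl fun χ _ => ?_
    simp only [phi, map_mul, map_inv₀, Complex.conj_natCast, hc]
    ring
  rw [this, Finset.sum_congr rfl step, Finset.sum_const, nsmul_eq_mul, ← hc]
  split_ifs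
  · field_simp
  · simp

omit hp in
/-- The constant function `1` averages to `1`. -/
theorem phi_one [NeZero p] (k : ZMod p) : s.phi (1 : G → ℂ) k = 1 := by
  simp [phi, s.card_kset_ne_zero]

/-- `phi` of a class function is invariant under `auto`. -/
theorem phi_mul_auto {f : G → ℂ} (hf : Cfsg.IsClassFunction G f) {a : (ZMod p)ˣ}
    (ha : a ∈ s.auto) (k : ZMod p) : s.phi f (k * a) = s.phi f k := by
  by_cases hk : k = 0
  · simp [hk]
  obtain ⟨g, hg⟩ := isConj_iff.mp ((s.isConj_zp_iff hk).mpr ⟨a, ha, rfl⟩)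
  have hka : k * (a : ZMod p) ≠ 0 := mul_ne_zero hk a.ne_zero
  have hg' : g⁻¹ * s.zp (k * a) * g⁻¹⁻¹ = s.zp k := by rw [← hg]; group
  unfold phi
  congr 1
  symm
  refine Finset.sum_nbij (fun w => g * w * g⁻¹) (fun w hw => ?_) (fun a _ b _ h => by simpa using h)
    (fun w hw => ⟨g⁻¹ * w * g, ?_, by group⟩) (fun w hw => ?_)
  · exact s.mem_kset.mpr (s.conj_mem_K hk hg (s.mem_kset.mp hw))
  · have h1 := s.conj_mem_K hka hg' (s.mem_kset.mp hw)
    rw [inv_inv] at h1
    exact s.mem_kset.mpr h1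
  · rw [← hg, ← hf (s.zp k * w) g]
    congr 1
    group

/-- `ψ_r` extended trivially over `K`. -/
noncomputable def linHom (r : ZMod p) : Multiplicative (ZMod p) × s.K →* ℂˣ :=
  ((ZMod.stdAddChar.mulShift r).toMonoidHom.toHomUnits).comp (MonoidHom.fst _ _)

/-- The multiplicity of `ψ_r` in the `K`-fixed part. -/
noncomputable def mult (f : G → ℂ) (r : ZMod p) : ℂ :=
  (p : ℂ)⁻¹ * ∑ k : ZMod p, s.phi f k * ZMod.stdAddChar (-(r * k))

theorem mult_eq_natCast {f : G → ℂ} (hf : Cfsg.IsCharacter G f) (r : ZMod p) :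
    ∃ n : ℕ, s.mult f r = n := by
  classical
  obtain ⟨n, hn⟩ := CharCore.IsCharacter.exists_classInner_eq_natCast
    (CharCore.isCharacter_comp hf s.embed)
    (CharCore.IsIrrCharacter.isCharacter (CharCore.isIrrCharacter_hom (s.linHom r)))
  refine ⟨n, hn ▸ ?_⟩
  have hp0 : (p : ℂ) ≠ 0 := Nat.cast_ne_zero.mpr hp.out.ne_zero
  rw [Cfsg.classInner, Nat.card_prod, Nat.card_congr Multiplicative.toAdd, Nat.card_zmod,
    Fintype.sum_prod_type, Nat.cast_mul, mult]
  rw [← Fintype.sum_equiv Multiplicative.ofAdd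
    (fun k : ZMod p => ∑ w : s.K, (f ∘ s.embed) (Multiplicative.ofAdd k, w) *
      conj ((s.linHom r (Multiplicative.ofAdd k, w) : ℂ))) _ (fun k => rfl)]
  rw [Finset.mul_sum, Finset.mul_sum]
  refine Finset.sum_congr rfl fun k _ => ?_
  have hsum : ∑ w ∈ s.kset, f (s.zp k * w) = ∑ w : s.K, f (s.zp k * w) :=
    Finset.sum_subtype s.kset (fun w => s.mem_kset) _
  rw [phi, hsum, card_kset, mul_inv, Finset.mul_sum, Finset.sum_mul, Finset.mul_sum,
    Finset.mul_sum]
  refine Finset.sum_congr rfl fun w _ => ?_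
  have hl : (s.linHom r (Multiplicative.ofAdd k, w) : ℂ) = ZMod.stdAddChar (r * k) := by
    simp [linHom, AddChar.mulShift_apply]
  rw [Function.comp_apply, hl, conj_stdAddChar]
  change _ = _ * (f (s.zp k * (w : G)) * _)
  ring

/-- Fourier inversion. -/
theorem phi_eq_sum_mult (f : G → ℂ) (k : ZMod p) :
    s.phi f k = ∑ r : ZMod p, s.mult f r * ZMod.stdAddChar (r * k) := by
  have hp0 : (p : ℂ) ≠ 0 := Nat.cast_ne_zero.mpr hp.out.ne_zero
  simp only [mult, mul_assoc, Finset.sum_mul]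
  rw [← Finset.mul_sum, Finset.sum_comm]
  have h1 : ∀ j : ZMod p, ∑ r : ZMod p, s.phi f j *
      ((ZMod.stdAddChar (-(r * j)) : ℂ) * ZMod.stdAddChar (r * k)) =
      if j = k then s.phi f j * p else 0 := by
    intro j
    rw [← Finset.mul_sum,
      Finset.sum_congr rfl (g := fun r => (ZMod.stdAddChar (r * (k - j)) : ℂ)) (fun r _ => by
        rw [← AddChar.map_add_eq_mul]; congr 1; ring),
      sum_stdAddChar, mul_ite, mul_zero]
    refine if_congr (by rw [sub_eq_zero, eq_comm]) rfl rfl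
  rw [Finset.sum_congr rfl (fun j _ => h1 j), Finset.sum_ite_eq' Finset.univ k, if_pos (Finset.mem_univ k)]
  field_simp

/-- `mult r - mult 0`, in a form using only `k ≠ 0`. -/
noncomputable def vecC (f : G → ℂ) (r : ZMod p) : ℂ :=
  (p : ℂ)⁻¹ * ∑ k : ZMod p, s.phi f k * ((ZMod.stdAddChar (-(r * k)) : ℂ) - 1)

theorem vecC_eq_sub (f : G → ℂ) (r : ZMod p) : s.vecC f r = s.mult f r - s.mult f 0 := by
  rw [vecC, mult, mult, ← mul_sub, ← Finset.sum_sub_distrib]
  congr 1
  exact Finset.sum_congr rfl fun k _ => by simp [mul_sub]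

theorem exists_vecC_eq_intCast {f : G → ℂ} (hf : Cfsg.IsCharacter G f) (r : ZMod p) :
    ∃ n : ℤ, s.vecC f r = n := by
  obtain ⟨a, ha⟩ := s.mult_eq_natCast hf r
  obtain ⟨b, hb⟩ := s.mult_eq_natCast hf 0
  exact ⟨(a : ℤ) - b, by rw [vecC_eq_sub, ha, hb]; push_cast; ring⟩

/-- The integer vector. -/
noncomputable def vec (χ : Cfsg.IrrCharacter G) (r : ZMod p) : ℤ :=
  (s.exists_vecC_eq_intCast (CharCore.irr_isCharacter χ) r).choose

theorem vec_spec (χ : Cfsg.IrrCharacter G) (r : ZMod p) :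
    (s.vec χ r : ℂ) = s.vecC (χ : G → ℂ) r :=
  (s.exists_vecC_eq_intCast (CharCore.irr_isCharacter χ) r).choose_spec.symm

theorem vec_mul_auto (χ : Cfsg.IrrCharacter G) {a : (ZMod p)ˣ} (ha : a ∈ s.auto) (r : ZMod p) :
    s.vec χ (r * a) = s.vec χ r := by
  apply Int.cast_injective (α := ℂ)
  rw [vec_spec, vec_spec, vecC, vecC]
  congr 1
  refine Fintype.sum_equiv (Units.mulRight a) _ _ fun k => ?_
  rw [Units.mulRight_apply, s.phi_mul_auto (CharCore.irr_isClassFunction χ) ha]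
  congr 3
  ring

theorem vec_trivial {r : ZMod p} (hr : r ≠ 0) :
    s.vec ⟨1, CharCore.isIrrCharacter_one⟩ r = -1 := by
  apply Int.cast_injective (α := ℂ)
  rw [vec_spec, vecC]
  have hp0 : (p : ℂ) ≠ 0 := Nat.cast_ne_zero.mpr hp.out.ne_zero
  simp only [s.phi_one, one_mul, Finset.sum_sub_distrib, Finset.sum_const, Finset.card_univ,
    ZMod.card, nsmul_eq_mul, mul_one]
  rw [Finset.sum_congr rfl (g := fun k => (ZMod.stdAddChar (k * (-r)) : ℂ)) (fun k _ => by
    congr 1; ring), sum_stdAddChar, if_neg (neg_ne_zero.mpr hr)]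
  push_cast
  field_simp
  ring

/-- Sum over the relation. -/
theorem sum_rel_mul (j : ZMod p) (F : ZMod p → ℂ) [Fintype s.auto]
    [∀ k, Decidable (∃ a ∈ s.auto, k = j * (a : ZMod p))] (hj : j ≠ 0) :
    ∑ k, (if ∃ a ∈ s.auto, k = j * (a : ZMod p) then F k else 0) =
      ∑ a : s.auto, F (j * ((a : (ZMod p)ˣ) : ZMod p)) := by
  classical
  rw [← Finset.sum_filter]
  symm
  refine Finset.sum_nbij (fun a : s.auto => j * ((a : (ZMod p)ˣ) : ZMod p)) (fun a _ => ?_)
    (fun a _ b _ h => ?_) (fun k hk => ?_) (fun a _ => rfl)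
  · simp only [Finset.coe_filter, Finset.mem_univ, true_and, Finset.mem_filter]
    exact ⟨a, a.2, rfl⟩
  · exact Subtype.ext (Units.ext (mul_left_cancel₀ hj h))
  · obtain ⟨a, ha, rfl⟩ := (Finset.mem_filter.mp hk).2
    exact ⟨⟨a, ha⟩, Finset.mem_univ _, rfl⟩

/-- Gram matrix of the vectors. -/
theorem sum_vec_mul {r t : ZMod p} (hr : r ≠ 0) (ht : t ≠ 0)
    [Decidable (∃ a ∈ s.auto, r = t * (a : ZMod p))] :
    ∑ χ : Cfsg.IrrCharacter G, s.vec χ r * s.vec χ t =
      (if ∃ a ∈ s.auto, r = t * (a : ZMod p) then 1 else 0) + (Nat.card s.auto : ℤ) := by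
  classical
  have := Fintype.ofFinite s.auto
  have hp0 : (p : ℂ) ≠ 0 := Nat.cast_ne_zero.mpr hp.out.ne_zero
  apply Int.cast_injective (α := ℂ)
  push_cast
  have hconj : ∀ χ : Cfsg.IrrCharacter G, (s.vec χ t : ℂ) = conj (s.vecC (χ : G → ℂ) t) := by
    intro χ; rw [← vec_spec, map_intCast]
  have hb : ∀ j : ZMod p, ∀ k : ZMod p,
      conj ((ZMod.stdAddChar (-(t * k)) : ℂ) - 1) = (ZMod.stdAddChar (t * k) : ℂ) - 1 := by
    intro j k
    rw [map_sub, map_one, conj_stdAddChar, neg_neg]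
  calc ∑ χ : Cfsg.IrrCharacter G, (s.vec χ r : ℂ) * (s.vec χ t : ℂ)
      = ∑ χ : Cfsg.IrrCharacter G, (p : ℂ)⁻¹ * (p : ℂ)⁻¹ * ∑ j : ZMod p, ∑ k : ZMod p,
          ((ZMod.stdAddChar (-(r * j)) : ℂ) - 1) * ((ZMod.stdAddChar (t * k) : ℂ) - 1) *
            (s.phi (χ : G → ℂ) j * conj (s.phi (χ : G → ℂ) k)) := by
        refine Finset.sum_congr rfl fun χ _ => ?_
        rw [hconj, vec_spec, vecC, vecC, map_mul, map_inv₀, Complex.conj_natCast, map_sum,
          mul_mul_mul_comm, Finset.sum_mul_sum]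
        congr 1
        refine Finset.sum_congr rfl fun j _ => Finset.sum_congr rfl fun k _ => ?_
        rw [map_mul, hb j k]
        ring
    _ = (p : ℂ)⁻¹ * (p : ℂ)⁻¹ * ∑ j : ZMod p, ∑ k : ZMod p,
          ((ZMod.stdAddChar (-(r * j)) : ℂ) - 1) * ((ZMod.stdAddChar (t * k) : ℂ) - 1) *
            ∑ χ : Cfsg.IrrCharacter G, s.phi (χ : G → ℂ) j * conj (s.phi (χ : G → ℂ) k) := by
        rw [← Finset.mul_sum, Finset.sum_comm]
        congr 1
        refine Finset.sum_congr rfl fun j _ => ?_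
        rw [Finset.sum_comm]
        exact Finset.sum_congr rfl fun k _ => (Finset.mul_sum _ _ _).symm
    _ = (p : ℂ)⁻¹ * ∑ j : ZMod p, ∑ a : s.auto,
          ((ZMod.stdAddChar (-(r * j)) : ℂ) - 1) *
            ((ZMod.stdAddChar (t * (j * ((a : (ZMod p)ˣ) : ZMod p))) : ℂ) - 1) := by
        rw [mul_assoc, Finset.mul_sum Finset.univ _ (p : ℂ)⁻¹]
        congr 1
        refine Finset.sum_congr rfl fun j _ => ?_
        by_cases hj : j = 0
        · simp [hj]
        · rw [← s.sum_rel_mul j (fun k => ((ZMod.stdAddChar (-(r * j)) : ℂ) - 1) *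
            ((ZMod.stdAddChar (t * k) : ℂ) - 1)) hj, Finset.mul_sum]
          refine Finset.sum_congr rfl fun k _ => ?_
          rw [s.sum_phi_mul_conj hj k]
          split_ifs <;> field_simp <;> ring
    _ = (p : ℂ)⁻¹ * ∑ a : s.auto,
          (p : ℂ) * ((if r = t * ((a : (ZMod p)ˣ) : ZMod p) then 1 else 0) + 1) := by
        rw [Finset.sum_comm]
        congr 1
        refine Finset.sum_congr rfl fun a _ => ?_
        set u : ZMod p := ((a : (ZMod p)ˣ) : ZMod p) with hu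
        have hexp : ∀ j : ZMod p, ((ZMod.stdAddChar (-(r * j)) : ℂ) - 1) *
            ((ZMod.stdAddChar (t * (j * u)) : ℂ) - 1) =
            (ZMod.stdAddChar (j * (t * u - r)) : ℂ) - ZMod.stdAddChar (j * (-r)) -
              ZMod.stdAddChar (j * (t * u)) + 1 := by
          intro j
          rw [show j * (t * u - r) = -(r * j) + t * (j * u) by ring, AddChar.map_add_eq_mul,
            show j * (-r) = -(r * j) by ring, show j * (t * u) = t * (j * u) by ring]
          ring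
        rw [Finset.sum_congr rfl (fun j _ => hexp j), Finset.sum_add_distrib,
          Finset.sum_sub_distrib, Finset.sum_sub_distrib, sum_stdAddChar, sum_stdAddChar,
          sum_stdAddChar, if_neg (neg_ne_zero.mpr hr),
          if_neg (mul_ne_zero ht (a : (ZMod p)ˣ).ne_zero), Finset.sum_const, Finset.card_univ,
          ZMod.card, nsmul_eq_mul, mul_one]
        by_cases hrt : r = t * u
        · rw [if_pos (sub_eq_zero.mpr hrt.symm), if_pos hrt]; ring
        · rw [if_neg (fun h => hrt (sub_eq_zero.mp h).symm), if_neg hrt]; ring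
    _ = _ := by
        rw [← Finset.mul_sum, inv_mul_cancel_left₀ hp0, Finset.sum_add_distrib, Finset.sum_const,
          Finset.card_univ, ← Nat.card_eq_fintype_card, nsmul_eq_mul, mul_one]
        congr 1
        split_ifs with h
        · obtain ⟨a, ha, rfl⟩ := h
          rw [Finset.sum_eq_single (⟨a, ha⟩ : s.auto), if_pos rfl]
          · intro b _ hb
            rw [if_neg]
            intro h
            exact hb (Subtype.ext (Units.ext (mul_left_cancel₀ ht h)).symm)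
          · simp
        · refine Finset.sum_eq_zero fun a _ => if_neg fun h' => h ⟨a, a.2, h'⟩

/-- The vectors are orthogonal to the values at an element meeting no coset `z ^ k * K`. -/
theorem sum_vec_mul_apply {g : G} (hg : ∀ k : ZMod p, k ≠ 0 → ∀ w ∈ s.K, ¬ IsConj g (s.zp k * w))
    (r : ZMod p) : ∑ χ : Cfsg.IrrCharacter G, (χ : G → ℂ) g * (s.vec χ r : ℂ) = 0 := by
  classical
  have hconj : ∀ χ : Cfsg.IrrCharacter G, (s.vec χ r : ℂ) = conj (s.vecC (χ : G → ℂ) r) := by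
    intro χ; rw [← vec_spec, map_intCast]
  simp only [hconj, vecC, phi, map_mul, map_inv₀, Complex.conj_natCast, map_sum, map_sub, map_one,
    conj_stdAddChar, neg_neg, Finset.mul_sum, Finset.sum_mul]
  rw [Finset.sum_comm]
  refine Finset.sum_eq_zero fun k _ => ?_
  rw [Finset.sum_comm]
  refine Finset.sum_eq_zero fun w hw => ?_
  by_cases hk : k = 0
  · simp [hk]
  have h0 : ∑ χ : Cfsg.IrrCharacter G, (χ : G → ℂ) g * conj ((χ : G → ℂ) (s.zp k * w)) = 0 := by
    rw [CharCore.sum_apply_mul_conj, if_neg (hg k hk w (s.mem_kset.mp hw))]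
  calc _ = (∑ χ : Cfsg.IrrCharacter G, (χ : G → ℂ) g * conj ((χ : G → ℂ) (s.zp k * w))) *
        ((p : ℂ)⁻¹ * (s.kset.card : ℂ)⁻¹ * ((ZMod.stdAddChar (r * k) : ℂ) - 1)) := by
        rw [Finset.sum_mul]
        exact Finset.sum_congr rfl fun χ _ => by ring
    _ = 0 := by rw [h0, zero_mul]

theorem sum_vec_mul_degree (r : ZMod p) :
    ∑ χ : Cfsg.IrrCharacter G, (χ : G → ℂ) 1 * (s.vec χ r : ℂ) = 0 := by
  refine s.sum_vec_mul_apply (fun k hk w hw h => ?_) r
  rw [isConj_one_right] at h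
  have h1 : s.zp k = w⁻¹ := eq_inv_of_mul_eq_one_left h
  exact hk ((s.zp_mem_K_iff k).mp (h1 ▸ inv_mem hw))

end Setup

end Cfsg.Agent.SmallGroups.SelfCent
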