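import Cfsg.Agent.Lib.SmallGroups.SelfCent.Two

/-!
# Degrees for a self-centralising subgroup of prime order with `|N : C| = 2`
-/

set_option autoImplicit false

open scoped ComplexConjugate

namespace Cfsg.Agent.SmallGroups.SelfCent

open Subgroup BlocksCore CharDeep

namespace Setup

variable {G : Type*} [Group G] [Fintype G] {p : ℕ} [hp : Fact p.Prime] (s : Setup G p)

theorem zp_neg (a : ZMod p) : s.zp (-a) = (s.zp a)⁻¹ := by
  rw [eq_inv_iff_mul_eq_one, ← s.zp_add, neg_add_cancel, s.zp_zero]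

/-- An involution inverting `z`. -/
theorem exists_inverting (hK : s.K = ⊥) (hp2 : p ≠ 2) (he : Nat.card s.auto = 2) :
    ∃ x : G, x ^ 2 = 1 ∧ ∀ k : ZMod p, x * s.zp k * x⁻¹ = s.zp (-k) := by
  classical
  obtain ⟨a, b, hab, huniv⟩ := Nat.card_eq_two_iff.mp he
  obtain ⟨u, hu, hu1⟩ : ∃ u ∈ s.auto, u ≠ 1 := by
    by_cases h : (a : (ZMod p)ˣ) = 1
    · exact ⟨b, b.2, fun h' => hab (Subtype.ext (h.trans h'.symm))⟩
    · exact ⟨a, a.2, h⟩
  have hsq : u ^ 2 = 1 := by
    have h := congrArg Subtype.val (pow_card_eq_one' (x := (⟨u, hu⟩ : s.auto)))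
    rw [he] at h
    simpa using h
  have hval : (u : ZMod p) = -1 := by
    have h : (u : ZMod p) ^ 2 = 1 := by rw [← Units.val_pow_eq_pow_val, hsq, Units.val_one]
    rcases sq_eq_one_iff.mp h with h | h
    · exact absurd (Units.ext h) hu1
    · exact h
  have hc : IsConj s.z (s.zp (-1)) := hval ▸ (s.mem_auto_iff u).mp hu
  obtain ⟨c, hc⟩ := isConj_iff.mp hc
  have hconj : ∀ k : ZMod p, c * s.zp k * c⁻¹ = s.zp (-k) := fun k => by
    have h := s.conj_zp_mul (j := 1) (k := -1) (g := c) (by rw [s.zp_one]; exact hc) k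
    simpa using h
  refine ⟨c, ?_, hconj⟩
  have hmem : c ^ 2 ∈ centralizer ({s.z} : Set G) := by
    rw [mem_centralizer_singleton_iff]
    have h1 := hconj 1
    rw [s.zp_one] at h1
    have h2 := hconj (-1)
    rw [neg_neg, s.zp_one, ← h1] at h2
    calc c ^ 2 * s.z = c * (c * s.z * c⁻¹) * c⁻¹ * c ^ 2 := by simp [sq, mul_assoc]
      _ = s.z * c ^ 2 := by rw [h2]
  obtain ⟨k, w, hw, hk⟩ := s.exists_of_mem_cent hmem
  rw [hK, mem_bot] at hw
  rw [hw, mul_one] at hk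
  have hfix : c * s.zp k * c⁻¹ = s.zp k := by rw [← hk]; group
  have hk0 : k = 0 := by
    have h := s.zp_injective ((hconj k).symm.trans hfix)
    have h2 : (2 : ZMod p) * k = 0 := by linear_combination -h
    have hne : (2 : ZMod p) ≠ 0 := by
      intro h
      have hdvd : p ∣ 2 := (ZMod.natCast_eq_zero_iff 2 p).mp (by exact_mod_cast h)
      exact hp2 ((Nat.prime_dvd_prime_iff_eq hp.out Nat.prime_two).mp hdvd)
    exact (mul_eq_zero.mp h2).resolve_left hne
  rw [hk, hk0, s.zp_zero]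

/-- The pairs of conjugates of `x` with product `z` correspond to `z ^ k`. -/
theorem card_pairs (hK : s.K = ⊥) (hp2 : p ≠ 2) {x : G} (hx : x ^ 2 = 1)
    (hinv : ∀ k : ZMod p, x * s.zp k * x⁻¹ = s.zp (-k)) :
    Nat.card {q : G × G // IsConj x q.1 ∧ IsConj x q.2 ∧ q.1 * q.2 = s.z} = p := by
  classical
  have h2 : (2 : ZMod p) ≠ 0 := by
    intro h
    have hdvd : p ∣ 2 := (ZMod.natCast_eq_zero_iff 2 p).mp (by exact_mod_cast h)
    exact hp2 ((Nat.prime_dvd_prime_iff_eq hp.out Nat.prime_two).mp hdvd)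
  have hxx : x * x = 1 := by rw [← sq]; exact hx
  have hxi : x⁻¹ = x := inv_eq_of_mul_eq_one_right hxx
  have hcomm : ∀ k : ZMod p, x * s.zp k = s.zp (-k) * x := fun k =>
    mul_inv_eq_iff_eq_mul.mp (hinv k)
  have hconj : ∀ k : ZMod p, IsConj x (s.zp k * x) := fun k => by
    refine isConj_iff.mpr ⟨s.zp (k / 2), ?_⟩
    rw [← s.zp_neg, mul_assoc, hcomm, ← mul_assoc, ← s.zp_add, neg_neg]
    congr 2
    field_simp
    ring
  have hmul : ∀ a b : ZMod p, s.zp a * x * (s.zp b * x) = s.zp (a - b) := fun a b => by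
    rw [mul_assoc, ← mul_assoc x, hcomm, mul_assoc (s.zp (-b)), hxx, mul_one, ← s.zp_add,
      sub_eq_add_neg]
  let F : ZMod p → {q : G × G // IsConj x q.1 ∧ IsConj x q.2 ∧ q.1 * q.2 = s.z} := fun k =>
    ⟨(s.zp k * x, s.zp (k - 1) * x), hconj _, hconj _, by
      rw [hmul, sub_sub_cancel, s.zp_one]⟩
  suffices hb : Function.Bijective F by
    rw [← Nat.card_congr (Equiv.ofBijective F hb), Nat.card_zmod]
  refine ⟨fun a b h => ?_, ?_⟩
  · have h1 := congrArg (fun q => q.1.1) h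
    exact s.zp_injective (mul_right_cancel h1)
  rintro ⟨⟨u, w⟩, hu, hw, huw⟩
  have hinvol : ∀ {g : G}, IsConj x g → g * g = 1 := by
    intro g hg
    obtain ⟨c, rfl⟩ := isConj_iff.mp hg
    calc c * x * c⁻¹ * (c * x * c⁻¹) = c * (x * x) * c⁻¹ := by group
      _ = 1 := by rw [hxx, mul_one, mul_inv_cancel]
  have huu := hinvol hu
  have hww := hinvol hw
  simp only at huw huu hww
  have hz : u * s.z * u = s.z⁻¹ := by
    rw [← huw, mul_inv_rev, inv_eq_of_mul_eq_one_right huu, inv_eq_of_mul_eq_one_right hww,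
      ← mul_assoc u, huu, one_mul]
  have hxz : x * s.z * x = s.z⁻¹ := by
    have h := hinv 1
    rwa [s.zp_neg, s.zp_one, hxi] at h
  have hmem : u * x ∈ centralizer ({s.z} : Set G) := by
    rw [mem_centralizer_singleton_iff]
    have h1 : x * s.z⁻¹ * x = s.z := by rw [← hxz]; simp [mul_assoc, ← mul_assoc x x, hxx]
    calc u * x * s.z = u * (x * s.z * x) * x := by simp [mul_assoc, hxx]
      _ = u * (u * s.z * u) * x := by rw [hxz, hz]
      _ = s.z * (u * x) := by simp [← mul_assoc, huu]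
  obtain ⟨k, v, hv, hk⟩ := s.exists_of_mem_cent hmem
  rw [hK, mem_bot] at hv
  rw [hv, mul_one] at hk
  have hu' : u = s.zp k * x := by rw [← hk, mul_assoc, hxx, mul_one]
  have hw' : w = s.zp (k - 1) * x := by
    rw [← mul_left_cancel_iff (a := u), huw, hu', hmul, sub_sub_cancel, s.zp_one]
  exact ⟨k, Subtype.ext (Prod.ext hu'.symm hw'.symm)⟩

/-- For `e = 2` and `K = 1` the product of `|G| / p` and the two degrees is a square. -/
theorem exists_two_degrees_aux [Fintype s.Orb] [DecidableEq (Cfsg.IrrCharacter G)]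
    [IsSimpleGroup G] (hG : ¬ IsMulCommutative G) (hp5 : 5 ≤ p) (hK : s.K = ⊥)
    (he : Nat.card s.auto = 2) :
    ∃ (a b : ℕ) (δ ε : ℤ), (δ = 1 ∨ δ = -1) ∧ (ε = 1 ∨ ε = -1) ∧ 2 ≤ a ∧
      a ∣ Nat.card G / p ∧ b ∣ Nat.card G / p ∧ (p : ℤ) ∣ (a : ℤ) - δ ∧
      (p : ℤ) ∣ (b : ℤ) - 2 * ε ∧ 1 + δ * a = ε * b ∧
      1 + a ^ 2 + (p - 1) / 2 * b ^ 2 ≤ Nat.card G ∧
      IsSquare (Nat.card G / p * a * b) := by
  classical
  obtain ⟨D, χa, δ, hδ, hat, hane, hca, hd, hrest⟩ := s.exists_two_data hp5 he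
  have hdiv : p ∣ Nat.card G := s.orderOf_z ▸ orderOf_dvd_natCard s.z
  have hpz : Prime (p : ℤ) := Nat.prime_iff_prime_int.mp hp.out
  have hane' : ¬ ∃ o, χa = D.f o := fun ⟨o, ho⟩ => hane o ho
  -- degrees
  have hmoda : (p : ℤ) ∣ (deg χa : ℤ) - δ := by
    obtain ⟨n, -, hn, hmod⟩ := D.fix_congr χa
    rw [hn hK, if_neg hane', hca, neg_neg, add_zero] at hmod
    exact hmod.symm.dvd
  obtain ⟨o₀⟩ : Nonempty s.Orb := inferInstance
  have hmodb : (p : ℤ) ∣ (D.b : ℤ) - 2 * D.eps := by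
    obtain ⟨n, -, hn, hmod⟩ := D.fix_congr (D.f o₀)
    rw [hn hK, if_pos ⟨o₀, rfl⟩, D.c_f, hd, D.deg_f, he, neg_zero, zero_add] at hmod
    exact_mod_cast hmod.symm.dvd
  have hpb : ¬ p ∣ D.b := by
    intro h
    have h1 : (p : ℤ) ∣ 2 * D.eps := by
      have := (Int.natCast_dvd_natCast.mpr h).sub hmodb
      rwa [sub_sub_cancel] at this
    have h2 : (p : ℤ) ∣ 2 := by
      rcases D.eps_eq with h | h <;> rw [h] at h1 <;> simpa using h1
    have h3 : (p : ℤ) ≤ 2 := Int.le_of_dvd (by norm_num) h2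
    omega
  have hdvda : deg χa ∣ Nat.card G / p := by
    have h := D.deg_dvd χa hane
    rw [hca] at h
    apply Int.natCast_dvd_natCast.mp
    rcases hδ with r | r <;> rw [r] at h <;> simpa using h
  have hdeg : 1 + δ * (deg χa : ℤ) = D.eps * D.b := by
    have h := D.degree_eq
    rw [← Finset.sum_subset (Finset.subset_univ {(triv : Cfsg.IrrCharacter G), χa})
      (fun χ _ hχ => by
        simp only [Finset.mem_insert, Finset.mem_singleton, not_or] at hχ
        rw [hrest χ hχ.1 hχ.2, mul_zero]),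
      Finset.sum_pair hat.symm, D.c_triv, hca, deg_triv] at h
    push_cast at h
    linear_combination -h
  have ha2 : 2 ≤ deg χa := by
    have h1 := (deg_spec χa).1
    have h2 : deg χa ≠ 1 := fun h => hat ((deg_eq_one_iff hG χa).mp h)
    omega
  have hsum := D.sum_sq_le {(triv : Cfsg.IrrCharacter G), χa} (fun o => by
    simp [D.triv_ne o, (hane o).symm])
  rw [Finset.sum_pair hat.symm, deg_triv, one_pow] at hsum
  have hcardO : Nat.card s.Orb = (p - 1) / 2 := by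
    have := s.card_orb_mul
    rw [he] at this
    omega
  rw [hcardO] at hsum
  refine ⟨deg χa, D.b, δ, D.eps, hδ, D.eps_eq, ha2, hdvda, D.deg_dvd_exceptional o₀ hpb, hmoda,
    hmodb, hdeg, hsum, ?_⟩
  -- the square
  obtain ⟨x, hx, hinv⟩ := s.exists_inverting hK (by omega) he
  obtain ⟨S, hS⟩ := exists_int_of_sq_eq_one χa hx
  have hsplit : ∀ F : Cfsg.IrrCharacter G → ℂ,
      (∀ χ, χ ≠ triv → χ ≠ χa → (∀ o, χ ≠ D.f o) → F χ = 0) →
      ∑ χ, F χ = F triv + F χa + ∑ o, F (D.f o) := by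
    intro F hF
    have hdisj : Disjoint ({(triv : Cfsg.IrrCharacter G), χa} : Finset _)
        (Finset.univ.image D.f) := by
      rw [Finset.disjoint_left]
      intro χ hχ hχ'
      obtain ⟨o, -, rfl⟩ := Finset.mem_image.mp hχ'
      simp [D.triv_ne o, (hane o).symm] at hχ
    rw [← Finset.sum_subset (Finset.subset_univ
        ({(triv : Cfsg.IrrCharacter G), χa} ∪ Finset.univ.image D.f)) (fun χ _ hχ => by
      simp only [Finset.mem_union, Finset.mem_insert, Finset.mem_singleton, Finset.mem_image,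
        Finset.mem_univ, true_and, not_or, not_exists] at hχ
      exact hF χ hχ.1.1 hχ.1.2 (fun o h => hχ.2 o h.symm)),
      Finset.sum_union hdisj, Finset.sum_pair hat.symm,
      Finset.sum_image fun a _ b _ h => D.inj h]
  have hzval : ∀ χ : Cfsg.IrrCharacter G, (∀ o, χ ≠ D.f o) →
      (χ : G → ℂ) s.z = -(D.c χ : ℂ) := by
    intro χ hχ
    have h := s.phi_of_const χ (D.c χ) (fun o => by rw [D.vec_eq, if_neg (hχ o), add_zero])
      (one_ne_zero (α := ZMod p))
    have hk : s.kset = {1} := by ext w; simp [s.mem_kset, hK]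
    simpa [phi, hk, s.zp_one] using h
  have hzero : ∀ χ : Cfsg.IrrCharacter G, χ ≠ triv → χ ≠ χa → (∀ o, χ ≠ D.f o) →
      (χ : G → ℂ) s.z = 0 := fun χ h1 h2 h3 => by
    rw [hzval χ h3, hrest χ h1 h2]; simp
  have hza : (χa : G → ℂ) s.z = δ := by rw [hzval χa hane, hca]; simp
  have hdC : ∀ χ : Cfsg.IrrCharacter G, (χ : G → ℂ) 1 = (deg χ : ℂ) := fun χ => (deg_spec χ).2.2
  have hb0 : (D.b : ℂ) ≠ 0 := by
    have h : (0 : ℕ) < D.b := D.deg_f o₀ ▸ (deg_spec _).1
    exact_mod_cast h.ne'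
  have ha0 : (deg χa : ℂ) ≠ 0 := by exact_mod_cast (show deg χa ≠ 0 by omega)
  have hdegC : (1 : ℂ) + δ * (deg χa : ℂ) = (D.eps : ℂ) * D.b := by exact_mod_cast hdeg
  have hepsC : (D.eps : ℂ) * D.eps = 1 := by exact_mod_cast D.eps_sq
  have hδC : (δ : ℂ) * δ = 1 := by rcases hδ with h | h <;> simp [h]
  have hzne : ¬ IsConj s.z 1 := by
    intro h
    have h1 := isConj_one_left.mp h
    exact hp.out.one_lt.ne' (by rw [← s.orderOf_z, h1, orderOf_one])
  -- exceptional values at `z`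
  have hexz : ∑ o, conj ((D.f o : G → ℂ) s.z) = -(D.eps : ℂ) := by
    have h := sum_irr_mul_conj (1 : G) s.z
    rw [classInd_apply_of_not_isConj (fun h => hzne h.symm), mul_zero] at h
    have h' := (mul_eq_zero.mp h).resolve_left (class_card_ne_zero 1)
    rw [hsplit _ (fun χ h1 h2 h3 => by simp [hzero χ h1 h2 h3]), hza,
      Finset.sum_congr rfl (g := fun o => (D.b : ℂ) * conj ((D.f o : G → ℂ) s.z))
        (fun o _ => by rw [hdC, D.deg_f]), ← Finset.mul_sum, hdC χa] at h'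
    simp only [triv, Pi.one_apply, map_one, mul_one, map_intCast] at h'
    apply mul_left_cancel₀ hb0
    linear_combination h' - hdegC
  -- exceptional values at `x`
  have hxne : ∀ k : ZMod p, k ≠ 0 → ∀ w ∈ s.K, ¬ IsConj x (s.zp k * w) := by
    intro k hk w hw hc
    rw [hK, mem_bot] at hw
    rw [hw, mul_one] at hc
    obtain ⟨g, hg⟩ := isConj_iff.mp hc
    have h1 : s.zp k ^ 2 = 1 := by rw [← hg, conj_pow, hx]; group
    rw [s.zp_pow, s.zp_eq_one_iff] at h1
    rcases mul_eq_zero.mp h1 with h | h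
    · exact hk h
    · have hdvd : p ∣ 2 := (ZMod.natCast_eq_zero_iff 2 p).mp (by exact_mod_cast h)
      have := Nat.le_of_dvd (by norm_num) hdvd
      omega
  have hexx : ∀ o, (D.f o : G → ℂ) x = (D.eps : ℂ) * (1 + δ * S) := by
    intro o
    have h := D.value_eq hxne o
    rw [hsplit _ (fun χ h1 h2 h3 => by rw [hrest χ h1 h2]; simp), D.c_triv] at h
    simp only [hca, D.c_f, hd, hS, triv, Pi.one_apply, Int.cast_neg, Int.cast_one,
      Int.cast_zero, mul_zero, Finset.sum_const_zero, add_zero, one_mul] at h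
    linear_combination (D.eps : ℂ) * h - (D.f o : G → ℂ) x * hepsC
  -- the count
  set C : ℕ := Nat.card {y : G // IsConj x y} with hC
  have hne : (Nat.card G : ℂ) ≠ 0 := Nat.cast_ne_zero.mpr Nat.card_pos.ne'
  have hcount : (p : ℂ) * (Nat.card G : ℂ) = (C : ℂ) ^ 2 *
      (1 + (δ : ℂ) * (S : ℂ) ^ 2 / (deg χa : ℂ) +
        ((D.eps : ℂ) * (1 + δ * S)) ^ 2 / (D.b : ℂ) * (-(D.eps : ℂ))) := by
    have h := classFun_eq_sum (isClassFunction_conv (isClassFunction_classInd x)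
      (isClassFunction_classInd x)) s.z
    rw [conv_classInd_apply, s.card_pairs hK (by omega) hx hinv] at h
    simp only [sum_conv_mul, ← hC] at h
    rw [hsplit _ (fun χ h1 h2 h3 => by simp [hzero χ h1 h2 h3]), hza,
      Finset.sum_congr rfl (g := fun o =>
        (Nat.card G : ℂ)⁻¹ * ((C : ℂ) ^ 2 * (((D.eps : ℂ) * (1 + δ * S)) ^ 2 / (D.b : ℂ))) *
          conj ((D.f o : G → ℂ) s.z))
        (fun o _ => by rw [hexx, hdC, D.deg_f]; ring), ← Finset.mul_sum, hexz, hdC χa, hS] at h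
    simp only [triv, Pi.one_apply, map_one, mul_one, map_intCast, div_one] at h
    rw [h]
    field_simp
  set A : ℂ := (δ : ℂ) * (deg χa : ℂ) with hA
  set B : ℂ := (D.eps : ℂ) * (D.b : ℂ) with hB
  have key : (p : ℂ) * (Nat.card G : ℂ) * (A * B) = ((C : ℂ) * (A - δ * S)) ^ 2 := by
    rw [hcount]
    have e : (1 + (δ : ℂ) * (S : ℂ) ^ 2 / (deg χa : ℂ) +
        ((D.eps : ℂ) * (1 + δ * S)) ^ 2 / (D.b : ℂ) * (-(D.eps : ℂ))) * (A * B) =
        (A - δ * S) ^ 2 := by
      rw [hA, hB]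
      field_simp
      grind
    rw [mul_assoc, e]
    ring
  have keyZ : (p : ℤ) * (Nat.card G : ℤ) * ((δ * (deg χa : ℤ)) * (D.eps * (D.b : ℤ))) =
      ((C : ℤ) * (δ * (deg χa : ℤ) - δ * S)) ^ 2 := by
    apply Int.cast_injective (α := ℂ)
    push_cast
    rw [← key, hA, hB]
  obtain ⟨m, hm⟩ := hdiv
  have hm' : Nat.card G / p = m := by rw [hm, Nat.mul_div_cancel_left _ hp.out.pos]
  obtain ⟨T, hT⟩ : (p : ℤ) ∣ (C : ℤ) * (δ * (deg χa : ℤ) - δ * S) := by
    apply hpz.dvd_of_dvd_pow (n := 2)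
    rw [← keyZ, mul_assoc]
    exact dvd_mul_right _ _
  rw [hT, hm] at keyZ
  have hT2 : (m : ℤ) * (deg χa : ℤ) * (D.b : ℤ) * (δ * D.eps) = T ^ 2 := by
    apply mul_left_cancel₀ (pow_ne_zero 2 hpz.ne_zero)
    push_cast at keyZ
    linear_combination keyZ
  have habs := congrArg Int.natAbs hT2
  have hu : ∀ {u : ℤ}, u = 1 ∨ u = -1 → u.natAbs = 1 := fun h => by
    rcases h with h | h <;> rw [h] <;> rfl
  simp only [Int.natAbs_mul, Int.natAbs_natCast, Int.natAbs_pow, hu hδ, hu D.eps_eq,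
    mul_one] at habs
  rw [hm']
  exact ⟨T.natAbs, habs.trans (sq _)⟩

end Setup

/-- The degrees for a self-centralising subgroup of prime order `p` with normalizer of order
`2 p` in a simple group. -/
theorem exists_two_degrees {G : Type*} [Group G] [Finite G] [IsSimpleGroup G]
    (hG : ¬ IsMulCommutative G) {p : ℕ} [Fact p.Prime] (hp5 : 5 ≤ p) (P : Subgroup G)
    (hP : Nat.card P = p) (hC : centralizer (P : Set G) = P)
    (hN : Nat.card (normalizer (P : Set G)) = 2 * p) :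
    ∃ (a b : ℕ) (δ ε : ℤ), (δ = 1 ∨ δ = -1) ∧ (ε = 1 ∨ ε = -1) ∧ 2 ≤ a ∧
      a ∣ Nat.card G / p ∧ b ∣ Nat.card G / p ∧ (p : ℤ) ∣ (a : ℤ) - δ ∧
      (p : ℤ) ∣ (b : ℤ) - 2 * ε ∧ 1 + δ * a = ε * b ∧
      1 + a ^ 2 + (p - 1) / 2 * b ^ 2 ≤ Nat.card G ∧
      IsSquare (Nat.card G / p * a * b) := by
  classical
  have := Fintype.ofFinite G
  obtain ⟨s, hK, -, hcard⟩ := exists_setup_of_prime P hP hC
  rw [hN] at hcard
  have he : Nat.card s.auto = 2 :=
    (Nat.eq_of_mul_eq_mul_right (Fact.out : p.Prime).pos hcard).symm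
  have := Fintype.ofFinite s.Orb
  exact s.exists_two_degrees_aux hG hp5 hK he

end Cfsg.Agent.SmallGroups.SelfCent
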