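import Cfsg.Agent.Lib.SmallGroups.Counting
import Cfsg.Agent.Lib.SmallGroups.SelfCent.TwoDeg

/-!
# Self-centralising Sylow subgroups of prime order from the normalizer order
-/

set_option autoImplicit false

namespace Cfsg.Agent.SmallGroups

open Subgroup

variable {G : Type*} [Group G] [Finite G] {p : ℕ} [hp : Fact p.Prime]

/-- The relative index of `C(P)` in `N(P)` divides `gcd (|N|, p - 1)` and is not `1`. -/
theorem relIndex_eq_of_gcd_prime [IsSimpleGroup G] (hG : ¬ IsMulCommutative G) (P : Sylow p G)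
    (hP : Nat.card ↥(P : Subgroup G) = p) {e : ℕ} (he : e.Prime)
    (hgcd : Nat.gcd (Nat.card ↥(normalizer ((P : Subgroup G) : Set G))) (p - 1) ∣ e) :
    (centralizer ((P : Subgroup G) : Set G)).relIndex (normalizer ((P : Subgroup G) : Set G)) =
      e := by
  have h1 := (Nat.dvd_gcd (relIndex_dvd_normalizer P)
    (relIndex_centralizer_dvd_of_prime _ hP)).trans hgcd
  refine ((Nat.dvd_prime he).mp h1).resolve_left fun h => ?_
  exact not_normalizer_le_centralizer hG (hP ▸ card_subgroup_dvd_card _) P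
    (relIndex_eq_one.mp h)

/-- `|C(P)| * |N : C| = |N(P)|`. -/
theorem card_centralizer_mul_relIndex (H : Subgroup G) :
    Nat.card ↥(centralizer (H : Set G)) *
        (centralizer (H : Set G)).relIndex (normalizer (H : Set G)) =
      Nat.card ↥(normalizer (H : Set G)) := by
  rw [← ((centralizer (H : Set G)).subgroupOf (normalizer (H : Set G))).card_mul_index,
    Nat.card_congr (subgroupOfEquivOfLe (centralizer_le_normalizer _)).toEquiv]
  rfl

/-- If `|N(P)| = e p` and `gcd (|N|, p - 1)` divides the prime `e` then `C(P) = P`. -/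
theorem centralizer_eq_self [IsSimpleGroup G] (hG : ¬ IsMulCommutative G) (P : Sylow p G)
    (hP : Nat.card ↥(P : Subgroup G) = p) {e : ℕ} (he : e.Prime)
    (hN : Nat.card ↥(normalizer ((P : Subgroup G) : Set G)) = e * p)
    (hgcd : Nat.gcd (e * p) (p - 1) ∣ e) :
    centralizer ((P : Subgroup G) : Set G) = (P : Subgroup G) := by
  have h := card_centralizer_mul_relIndex (P : Subgroup G)
  rw [relIndex_eq_of_gcd_prime hG P hP he (hN ▸ hgcd), hN, mul_comm e p] at h
  have hc := Nat.eq_of_mul_eq_mul_right he.pos h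
  refine (eq_of_le_of_card_ge ?_ (by rw [hc, hP])).symm
  have : IsCyclic ↥(P : Subgroup G) := isCyclic_of_prime_card hP
  exact le_centralizer _

/-- Number of Sylow subgroups `n` with `|G| = 2 p n`: the degree conditions. -/
theorem exists_two_degrees_of_sylow [IsSimpleGroup G] (hG : ¬ IsMulCommutative G) (hp5 : 5 ≤ p)
    {n : ℕ} (hcard : Nat.card G = 2 * p * n) (hn : Nat.card (Sylow p G) = n) (hpn : ¬ p ∣ 2 * n) :
    ∃ (a b : ℕ) (δ ε : ℤ), (δ = 1 ∨ δ = -1) ∧ (ε = 1 ∨ ε = -1) ∧ 2 ≤ a ∧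
      a ∣ 2 * n ∧ b ∣ 2 * n ∧ (p : ℤ) ∣ (a : ℤ) - δ ∧
      (p : ℤ) ∣ (b : ℤ) - 2 * ε ∧ 1 + δ * a = ε * b ∧
      1 + a ^ 2 + (p - 1) / 2 * b ^ 2 ≤ Nat.card G ∧ IsSquare (2 * n * a * b) := by
  obtain ⟨P⟩ := (inferInstance : Nonempty (Sylow p G))
  have hP : Nat.card ↥(P : Subgroup G) = p := by
    simpa using card_sylow_eq (p := p) (a := 1) (m := 2 * n) (by rw [hcard]; ring) hpn P
  have hN := normalizer_conj_eq_card P hn hcard
  have hg : Nat.gcd (2 * p) (p - 1) ∣ 2 := by
    have hcop : Nat.Coprime p (p - 1) :=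
      hp.out.coprime_iff_not_dvd.mpr fun h => by
        have := Nat.le_of_dvd (by omega) h
        omega
    rw [Nat.Coprime.gcd_mul_right_cancel 2 hcop]
    exact Nat.gcd_dvd_left _ _
  have h := SelfCent.exists_two_degrees hG hp5 (P : Subgroup G) hP
    (centralizer_eq_self hG P hP Nat.prime_two hN hg) hN
  have hdiv : Nat.card G / p = 2 * n := by
    rw [hcard, show 2 * p * n = p * (2 * n) by ring, Nat.mul_div_cancel_left _ hp.out.pos]
  rwa [hdiv] at h

end Cfsg.Agent.SmallGroups
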