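import Cfsg.Agent.Lib.SmallGroups.SelfCent.TwoClass
import Cfsg.Agent.Lib.SmallGroups.Counting
import Cfsg.Agent.Lib.SmallGroups.Action
import Cfsg.Agent.S1230

/-!
# Elementary involution centralisers from a class count
-/

set_option autoImplicit false

namespace Cfsg.Agent.SmallGroups.SelfCent

open Subgroup

variable {G : Type*} [Group G] [Finite G]

/-- A union of conjugacy classes all of whose centralisers have order dividing `d` has cardinality
a multiple of `|G| / d`. -/
theorem card_dvd_card_subtype_mul {q : G → Prop} (hq : ∀ g y, q y → q (g * y * g⁻¹)) {d : ℕ}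
    (hd : ∀ y, q y → Nat.card (centralizer ({y} : Set G)) ∣ d) :
    Nat.card G ∣ Nat.card {y : G // q y} * d := by
  classical
  have := Fintype.ofFinite G
  have := Fintype.ofFinite (ConjClasses G)
  let f : {y : G // q y} → ConjClasses G := fun y => ConjClasses.mk y.1
  rw [← Nat.card_congr (Equiv.sigmaFiberEquiv f), Nat.card_sigma, Finset.sum_mul]
  refine Finset.dvd_sum fun c _ => ?_
  rcases isEmpty_or_nonempty {y // f y = c} with h | ⟨⟨⟨y, hy⟩, rfl⟩⟩
  · simp
  · have e : Nat.card {z : {y : G // q y} // f z = f ⟨y, hy⟩} = Nat.card {g : G // IsConj y g} :=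
      Nat.card_congr
        { toFun := fun g => ⟨g.1.1, (ConjClasses.mk_eq_mk_iff_isConj.mp g.2).symm⟩
          invFun := fun g => ⟨⟨g.1, by
            obtain ⟨c, hc⟩ := isConj_iff.mp g.2
            exact hc ▸ hq c y hy⟩, ConjClasses.mk_eq_mk_iff_isConj.mpr g.2.symm⟩
          left_inv := fun g => rfl
          right_inv := fun g => rfl }
    obtain ⟨j, hj⟩ := hd y hy
    rw [e, hj, ← mul_assoc, Cfsg.Agent.SmallGroups.card_conj_mul_centralizer y]
    exact dvd_mul_right _ _

/-- Centraliser orders are invariant under conjugation. -/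
theorem card_centralizer_conj (g y : G) :
    Nat.card (centralizer ({g * y * g⁻¹} : Set G)) = Nat.card (centralizer ({y} : Set G)) := by
  refine (Nat.card_congr ((MulAut.conj g).toEquiv.subtypeEquiv fun u => ?_)).symm
  change u ∈ centralizer ({y} : Set G) ↔
    g * u * g⁻¹ ∈ centralizer ({g * y * g⁻¹} : Set G)
  rw [mem_centralizer_singleton_iff, mem_centralizer_singleton_iff]
  constructor
  · intro h
    calc g * u * g⁻¹ * (g * y * g⁻¹) = g * (u * y) * g⁻¹ := by group
      _ = g * (y * u) * g⁻¹ := by rw [h]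
      _ = _ := by group
  · intro h
    calc u * y = g⁻¹ * (g * u * g⁻¹ * (g * y * g⁻¹)) * g := by group
      _ = g⁻¹ * (g * y * g⁻¹ * (g * u * g⁻¹)) * g := by rw [h]
      _ = _ := by group

/-- A simple group of order `2 ^ k * m * p` with self-centralising subgroups of order `p`, a single
class of involutions with centraliser of order `2 ^ k`, and no room for further `2`-elements,
is a `PSL₂` over the field with `2 ^ k` elements. -/
theorem iso_psl_two_of_count [IsSimpleGroup G] {p k m : ℕ} [hp : Fact p.Prime] (hp2 : p ≠ 2)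
    (hk : 2 ≤ k) (hm : Odd m) (hpm : ¬ p ∣ m) (hG : Nat.card G = 2 ^ k * m * p)
    (hC : ∀ P : Sylow p G, centralizer ((P : Subgroup G) : Set G) = P) {x : G}
    (hx : x ^ 2 = 1) (hx1 : x ≠ 1) (hclass : ∀ y : G, y ^ 2 = 1 → y ≠ 1 → IsConj x y)
    (hxC : Nat.card (centralizer ({x} : Set G)) = 2 ^ k)
    (hcount : ∀ a b : ℕ, 1 + Nat.card (Sylow p G) * (p - 1) + m * p + a * (m * p) +
      b * (2 ^ k * p) = Nat.card G → a = 0) :
    ∃ (F : Type) (_ : Field F) (_ : Fintype F), Fintype.card F = 2 ^ k ∧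
      Nonempty (G ≃* Matrix.ProjectiveSpecialLinearGroup (Fin 2) F) := by
  classical
  have := Fintype.ofFinite G
  have hm2 : ¬ 2 ∣ m := fun h => (Nat.not_even_iff_odd.mpr hm) (even_iff_two_dvd.mpr h)
  have hP : ∀ P : Sylow p G, Nat.card ↥(P : Subgroup G) = p := fun P => by
    simpa using card_sylow_eq (a := 1) (m := 2 ^ k * m) (by rw [hG]; ring) (fun h => by
      rcases hp.out.dvd_mul.mp h with h' | h'
      · exact hp2 ((Nat.prime_dvd_prime_iff_eq hp.out Nat.prime_two).mp (hp.out.dvd_of_dvd_pow h'))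
      · exact hpm h') P
  have hone : orderOf x = 2 := orderOf_eq_prime hx hx1
  have hCinv : ∀ u : G, u ^ 2 = 1 → u ≠ 1 → Nat.card (centralizer ({u} : Set G)) = 2 ^ k := by
    intro u hu hu1
    obtain ⟨g, rfl⟩ := isConj_iff.mp (hclass u hu hu1)
    rw [card_centralizer_conj, hxC]
  -- a centraliser containing an element of order `p` belongs to such an element
  have hnop : ∀ y : G, y ≠ 1 → orderOf y ≠ p →
      ¬ p ∣ Nat.card (centralizer ({y} : Set G)) := by
    intro y hy1 hy hdvd
    obtain ⟨⟨w, hw⟩, hwo⟩ := exists_prime_orderOf_dvd_card' p hdvd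
    rw [orderOf_mk] at hwo
    obtain ⟨Q, hwQ⟩ := exists_mem_sylow hwo
    have hgen := zpowers_eq_of_card_prime (hP Q) hwQ (fun h => by
      rw [h, orderOf_one] at hwo; exact hp.out.ne_one hwo.symm)
    have hyQ : y ∈ centralizer ((Q : Subgroup G) : Set G) := by
      rw [← hgen, zpowers_eq_closure, centralizer_closure, mem_centralizer_singleton_iff]
      exact (mem_centralizer_singleton_iff.mp hw).symm
    rw [hC Q] at hyQ
    exact hy (orderOf_of_card_prime (hP Q) hyQ hy1)
  have hdiv : ∀ y : G, Nat.card (centralizer ({y} : Set G)) ∣ 2 ^ k * m * p := fun y =>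
    hG ▸ card_subgroup_dvd_card _
  have hA : ∀ y : G, y ≠ 1 → orderOf y ≠ p → 2 ∣ Nat.card (centralizer ({y} : Set G)) →
      Nat.card (centralizer ({y} : Set G)) ∣ 2 ^ k := by
    intro y hy1 hy h2
    obtain ⟨⟨u, hu⟩, huo⟩ := exists_prime_orderOf_dvd_card' 2 h2
    rw [orderOf_mk] at huo
    have hu1 : u ≠ 1 := fun h => by rw [h, orderOf_one] at huo; omega
    have hu2 : u ^ 2 = 1 := huo ▸ pow_orderOf_eq_one u
    have hyu : y ∈ centralizer ({u} : Set G) := by
      rw [mem_centralizer_singleton_iff]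
      exact (mem_centralizer_singleton_iff.mp hu).symm
    have hyo := Subgroup.orderOf_dvd_natCard _ hyu
    rw [hCinv u hu2 hu1] at hyo
    obtain ⟨j, -, hj⟩ := (Nat.dvd_prime_pow Nat.prime_two).mp hyo
    have hj0 : j ≠ 0 := fun h => hy1 (orderOf_eq_one_iff.mp (by rw [hj, h, pow_zero]))
    set v := y ^ (2 ^ (j - 1)) with hv
    have hvo : orderOf v = 2 := by
      have hjj : 2 ^ j = 2 ^ (j - 1) * 2 := by rw [← pow_succ]; congr 1; omega
      rw [hv, orderOf_pow' _ (pow_ne_zero _ two_ne_zero), hj, hjj, Nat.gcd_comm,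
        Nat.gcd_eq_left (Dvd.intro 2 rfl), Nat.mul_div_cancel_left _ (Nat.two_pow_pos _)]
    refine dvd_trans (card_dvd_of_le ?_)
      (dvd_of_eq (hCinv v (hvo ▸ pow_orderOf_eq_one v)
        (fun h => by rw [h, orderOf_one] at hvo; omega)))
    intro w hw
    rw [mem_centralizer_singleton_iff] at hw ⊢
    exact ((show Commute w y from hw).pow_right _).eq
  have hB : ∀ y : G, y ≠ 1 → orderOf y ≠ p → ¬ 2 ∣ Nat.card (centralizer ({y} : Set G)) →
      Nat.card (centralizer ({y} : Set G)) ∣ m := by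
    intro y hy1 hy h2
    have hcp : Nat.Coprime (Nat.card (centralizer ({y} : Set G))) p :=
      ((Nat.Prime.coprime_iff_not_dvd hp.out).mpr (hnop y hy1 hy)).symm
    have hc2 : Nat.Coprime (Nat.card (centralizer ({y} : Set G))) (2 ^ k) :=
      (((Nat.Prime.coprime_iff_not_dvd Nat.prime_two).mpr h2).symm).pow_right _
    exact hc2.dvd_of_dvd_mul_left (hcp.dvd_of_dvd_mul_right (hdiv y))
  -- the three counts
  have hsub : ∀ y g : G, g * y * g⁻¹ ≠ 1 ↔ y ≠ 1 := fun y g => by
    rw [not_iff_not, conj_eq_one_iff]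
  have hord : ∀ y g : G, orderOf (g * y * g⁻¹) = orderOf y := fun y g =>
    orderOf_injective (MulAut.conj g).toMonoidHom (MulEquiv.injective _) y
  set A := fun y : G => y ≠ 1 ∧ orderOf y ≠ p ∧ ¬ y ^ 2 = 1 ∧
    2 ∣ Nat.card (centralizer ({y} : Set G)) with hAdef
  set B := fun y : G => y ≠ 1 ∧ orderOf y ≠ p ∧ ¬ y ^ 2 = 1 ∧
    ¬ 2 ∣ Nat.card (centralizer ({y} : Set G)) with hBdef
  have hinvc : ∀ y g : G, (g * y * g⁻¹) ^ 2 = 1 ↔ y ^ 2 = 1 := fun y g => by
    rw [conj_pow, conj_eq_one_iff]
  have ha : m * p ∣ Nat.card {y : G // A y} := by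
    have h := card_dvd_card_subtype_mul (q := A) (d := 2 ^ k) (fun g y hy => by
      simp only [hAdef, hsub, hord, hinvc, card_centralizer_conj] at hy ⊢
      exact hy) (fun y hy => hA y hy.1 hy.2.1 hy.2.2.2)
    rw [hG, mul_assoc, mul_comm _ (2 ^ k)] at h
    exact (Nat.mul_dvd_mul_iff_left (Nat.two_pow_pos k)).mp h
  have hb : 2 ^ k * p ∣ Nat.card {y : G // B y} := by
    have h := card_dvd_card_subtype_mul (q := B) (d := m) (fun g y hy => by
      simp only [hBdef, hsub, hord, hinvc, card_centralizer_conj] at hy ⊢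
      exact hy) (fun y hy => hB y hy.1 hy.2.1 hy.2.2.2)
    rw [hG, mul_right_comm] at h
    exact Nat.dvd_of_mul_dvd_mul_right (by rcases hm with ⟨c, rfl⟩; omega) h
  have hI : Nat.card {y : G // y ^ 2 = 1 ∧ y ≠ 1} = m * p := by
    have e : Nat.card {y : G // y ^ 2 = 1 ∧ y ≠ 1} = Nat.card {g : G // IsConj x g} :=
      Nat.card_congr (Equiv.subtypeEquivRight fun y => by
        refine ⟨fun h => hclass y h.1 h.2, fun h => ?_⟩
        obtain ⟨g, rfl⟩ := isConj_iff.mp h
        exact ⟨(hinvc x g).mpr hx, (hsub x g).mpr hx1⟩)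
    have h := Cfsg.Agent.SmallGroups.card_conj_mul_centralizer x
    rw [← e, hxC, hG] at h
    exact Nat.eq_of_mul_eq_mul_right (Nat.two_pow_pos k) (by rw [h]; ring)
  have htot : 1 + Nat.card (Sylow p G) * (p - 1) + Nat.card {y : G // y ^ 2 = 1 ∧ y ≠ 1} +
      Nat.card {y : G // A y} + Nat.card {y : G // B y} = Nat.card G := by
    have hpcount := card_orderOf_eq hP
    rw [← hpcount]
    simp only [Nat.card_eq_fintype_card, Fintype.card_subtype]
    have hone' : (Finset.univ.filter fun y : G => y = 1).card = 1 := by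
      rw [Finset.filter_eq' Finset.univ (1 : G)]; simp
    rw [← hone', Finset.card_filter, Finset.card_filter, Finset.card_filter, Finset.card_filter,
      Finset.card_filter, ← Finset.sum_add_distrib, ← Finset.sum_add_distrib,
      ← Finset.sum_add_distrib, ← Finset.sum_add_distrib, ← Finset.card_univ,
      Finset.card_eq_sum_ones]
    refine Finset.sum_congr rfl fun y _ => ?_
    have hnot : orderOf y = p → y ≠ 1 ∧ ¬ y ^ 2 = 1 := fun h => ⟨fun h1 => by
      rw [h1, orderOf_one] at h; exact hp.out.ne_one h.symm, fun h1 => hp2 (by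
        have h3 := orderOf_dvd_of_pow_eq_one h1
        rw [h] at h3
        exact (Nat.prime_dvd_prime_iff_eq hp.out Nat.prime_two).mp h3)⟩
    by_cases h1 : y = 1
    · have : orderOf y ≠ p := fun h => (hnot h).1 h1
      simp [hAdef, hBdef, h1, this] at *
      simp [this]
    · by_cases h2 : orderOf y = p
      · simp [hAdef, hBdef, h1, h2, (hnot h2).2]
      · by_cases h3 : y ^ 2 = 1
        · simp [hAdef, hBdef, h1, h2, h3]
        · by_cases h4 : 2 ∣ Nat.card (centralizer ({y} : Set G))
          all_goals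
            simp [hAdef, hBdef, h1, h2, h3]
            rw [Nat.card_eq_fintype_card] at h4
            split_ifs <;> omega
  obtain ⟨a, ha⟩ := ha
  obtain ⟨b, hb⟩ := hb
  rw [hI, ha, hb, mul_comm (m * p) a, mul_comm (2 ^ k * p) b] at htot
  have ha0 : a = 0 := hcount a b htot
  rw [ha0, mul_zero] at ha
  have hAempty : ∀ y, ¬ A y := fun y hy => by
    have := Nat.card_eq_zero.mp ha
    rcases this with h | h
    · exact h.elim ⟨y, hy⟩
    · exact not_finite {y : G // A y}
  -- the centralisers of involutions are elementary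
  have hexp : ∀ t : G, orderOf t = 2 → ∀ c ∈ centralizer ({t} : Set G), c ^ 2 = 1 := by
    intro t ht c hc
    by_contra hc2
    have hc1 : c ≠ 1 := fun h => hc2 (by rw [h, one_pow])
    have ht2 : t ^ 2 = 1 := ht ▸ pow_orderOf_eq_one t
    have ht1 : t ≠ 1 := fun h => by rw [h, orderOf_one] at ht; omega
    refine hAempty c ⟨hc1, fun h => ?_, hc2, ?_⟩
    · have h1 := Subgroup.orderOf_dvd_natCard _ hc
      rw [h, hCinv t ht2 ht1] at h1
      exact hp2 ((Nat.prime_dvd_prime_iff_eq hp.out Nat.prime_two).mp (hp.out.dvd_of_dvd_pow h1))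
    · rw [← ht]
      refine Subgroup.orderOf_dvd_natCard _ ?_
      rw [mem_centralizer_singleton_iff]
      exact (mem_centralizer_singleton_iff.mp hc).symm
  obtain ⟨T⟩ := (inferInstance : Nonempty (Sylow 2 G))
  have hTcard : Nat.card ↥(T : Subgroup G) = 2 ^ k :=
    card_sylow_eq (m := m * p) (by rw [hG]; ring) (fun h => by
      rcases Nat.prime_two.dvd_mul.mp h with h' | h'
      · exact hm2 h'
      · exact hp2 ((Nat.prime_dvd_prime_iff_eq Nat.prime_two hp.out).mp h').symm) T
  have hnc : ¬ IsCyclic (T : Subgroup G) := by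
    intro h
    obtain ⟨g, hg⟩ := IsCyclic.exists_ofOrder_eq_natCard (α := ↥(T : Subgroup G))
    rw [hTcard] at hg
    have hgo : orderOf (g : G) = 2 ^ k := by rw [orderOf_coe, hg]
    set v := (g : G) ^ (2 ^ (k - 1)) with hv
    have hvo : orderOf v = 2 := by
      have hkk : 2 ^ k = 2 ^ (k - 1) * 2 := by rw [← pow_succ]; congr 1; omega
      rw [hv, orderOf_pow' _ (pow_ne_zero _ two_ne_zero), hgo, hkk, Nat.gcd_comm,
        Nat.gcd_eq_left (Dvd.intro 2 rfl), Nat.mul_div_cancel_left _ (Nat.two_pow_pos _)]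
    have h2 := orderOf_dvd_of_pow_eq_one (hexp v hvo g (by
      rw [mem_centralizer_singleton_iff]; exact ((Commute.refl (g : G)).pow_right _).eq))
    rw [hgo] at h2
    have h4 : 2 ^ 2 ≤ 2 ^ k := Nat.pow_le_pow_right (by norm_num) hk
    have := Nat.le_of_dvd (by norm_num) h2
    omega
  have hnn : ¬ (T : Subgroup G).Normal := by
    intro hn
    rcases hn.eq_bot_or_eq_top with h | h
    · rw [h, card_bot] at hTcard
      have := Nat.one_lt_two_pow (n := k) (by omega)
      omega
    · rw [h, card_top, hG] at hTcard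
      have hp1 := hp.out.two_le
      have h1 : m * p = 1 := Nat.eq_of_mul_eq_mul_left (Nat.two_pow_pos k)
        (by rw [mul_one, ← mul_assoc]; exact hTcard)
      have := Nat.eq_one_of_mul_eq_one_left h1
      omega
  obtain ⟨F, hF, hF', hcard, e⟩ := Cfsg.Agent.S1230.result T hnc hnn (fun t ht => by
    refine ⟨isMulCommutative_iff.mpr fun a b => ?_, hexp t ht⟩
    have hi : ∀ c : centralizer ({t} : Set G), c⁻¹ = c := fun c => by
      apply inv_eq_of_mul_eq_one_right
      apply Subtype.ext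
      have := hexp t ht c c.2
      simpa [sq] using this
    rw [← hi (a * b), mul_inv_rev, hi, hi])
  exact ⟨F, hF, hF', hcard.trans hTcard, e⟩

end Cfsg.Agent.SmallGroups.SelfCent
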