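import Cfsg.Agent.Lib.SmallGroups.SelfCent.Involution
import Cfsg.Agent.CharDeep.Expand

/-!
# Involution values and the class equation
-/

set_option autoImplicit false

open scoped ComplexConjugate

namespace Cfsg.Agent.SmallGroups.SelfCent

open BlocksCore

variable {G : Type*} [Group G] [Fintype G]

/-- The value of a character of a non-abelian simple group at an involution is an integer
congruent to the degree modulo `4`. -/
theorem exists_int_value_four [IsSimpleGroup G] (hG : ¬ IsMulCommutative G)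
    (χ : Cfsg.IrrCharacter G) {w : G} (hw : w ^ 2 = 1) :
    ∃ n : ℤ, (χ : G → ℂ) w = n ∧ -(Setup.deg χ : ℤ) ≤ n ∧ n ≤ (Setup.deg χ : ℤ) ∧
      (4 : ℤ) ∣ (Setup.deg χ : ℤ) - n := by
  classical
  obtain ⟨m, ρ, hρ, hχρ⟩ := χ.2
  obtain ⟨b, ω, hω, -, hb, hk⟩ := CharCore.exists_eigenvalues ρ w
  have ha2 : ∀ i, ω i = 1 ∨ ω i = -1 := fun i => by
    apply sq_eq_one_iff.mp
    obtain ⟨c, hc⟩ := orderOf_dvd_of_pow_eq_one hw
    rw [hc, pow_mul, hω i, one_pow]
  set S := Finset.univ.filter fun i => ω i = -1 with hS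
  have hval : (χ : G → ℂ) w =
      ((Module.finrank ℂ (Fin m → ℂ) : ℤ) - 2 * (S.card : ℤ) : ℤ) := by
    have h1 := hk 1
    simp only [pow_one] at h1
    rw [← hχρ, h1]
    have : ∀ i, ω i = 1 - 2 * (if ω i = -1 then (1 : ℂ) else 0) := fun i => by
      rcases ha2 i with h | h <;> rw [h] <;> norm_num
    rw [Finset.sum_congr rfl fun i _ => this i, Finset.sum_sub_distrib, ← Finset.mul_sum,
      Finset.sum_boole, ← hS]
    simp
  have hdeg : (Setup.deg χ : ℤ) = (Module.finrank ℂ (Fin m → ℂ) : ℤ) := by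
    have h := (Setup.deg_spec χ).2.2
    rw [← hχρ, Representation.char_one] at h
    exact_mod_cast h.symm
  have hS2 : Even S.card := by
    let f : G →* ℂˣ := (LinearMap.det.comp ρ).toHomUnits
    have hf : f w = 1 := by
      rcases f.normal_ker.eq_bot_or_eq_top with h | h
      · exact absurd (isMulCommutative_iff.mpr fun x y =>
          (MonoidHom.ker_eq_bot_iff f).mp h (by rw [map_mul, map_mul, mul_comm])) hG
      · exact MonoidHom.mem_ker.mp (h ▸ Subgroup.mem_top w)
    have h1 : LinearMap.det (ρ w) = 1 := congrArg Units.val hf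
    rw [CharDeep.Ext.det_eq_prod_eigen b ω _ hb] at h1
    have h2 : ∏ i, ω i = (-1) ^ S.card := by
      have h3 : ∀ i, ω i = if ω i = -1 then -1 else 1 := fun i => by
        rcases ha2 i with h | h <;> rw [h] <;> norm_num
      rw [Finset.prod_congr rfl fun i _ => h3 i, Finset.prod_ite, Finset.prod_const_one, mul_one,
        Finset.prod_const, ← hS]
    rw [h2] at h1
    exact (neg_one_pow_eq_one_iff_even (by norm_num)).mp h1
  have hle : S.card ≤ Module.finrank ℂ (Fin m → ℂ) := by
    have := Finset.card_le_univ S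
    simpa using this
  obtain ⟨c, hc⟩ := hS2
  exact ⟨_, hval, by omega, by omega, ⟨(c : ℤ), by omega⟩⟩

/-- A nontrivial element is in the kernel of the principal character only. -/
theorem value_ne_deg [IsSimpleGroup G] {χ : Cfsg.IrrCharacter G} (hχ1 : χ ≠ Setup.triv) {w : G}
    (hw : w ≠ 1) : (χ : G → ℂ) w ≠ (Setup.deg χ : ℂ) := by
  classical
  obtain ⟨m, ρ, hρ, hχρ⟩ := χ.2
  intro hval
  have hd : (Setup.deg χ : ℂ) = (Module.finrank ℂ (Fin m → ℂ) : ℂ) := by
    rw [← (Setup.deg_spec χ).2.2, ← hχρ, Representation.char_one]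
  rw [← hχρ, hd] at hval
  have hid := (CharCore.character_eq_finrank_iff ρ w).mp hval
  let φ : G →* Module.End ℂ (Fin m → ℂ) := ρ
  have hker : φ.ker = ⊤ := φ.normal_ker.eq_bot_or_eq_top.resolve_left fun h =>
    hw ((Subgroup.mem_bot).mp (h ▸ (MonoidHom.mem_ker.mpr hid : w ∈ φ.ker)))
  have hconst : ∀ g, (χ : G → ℂ) g = (Setup.deg χ : ℂ) := fun g => by
    have h1 : φ g = 1 := MonoidHom.mem_ker.mp (hker ▸ Subgroup.mem_top g)
    rw [← hχρ, (CharCore.character_eq_finrank_iff ρ g).mpr h1, hd]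
  have h2 := CharCore.classInner_irr_of_ne hχ1
  simp only [Cfsg.classInner, hconst, Setup.triv, Pi.one_apply, map_one, mul_one,
    Finset.sum_const, Finset.card_univ, nsmul_eq_mul, ← Nat.card_eq_fintype_card] at h2
  have hd0 : (Setup.deg χ : ℂ) ≠ 0 := Nat.cast_ne_zero.mpr (Setup.deg_spec χ).1.ne'
  simp [hd0] at h2

/-- An involution of a non-abelian simple group does not act as `-1` in a nonprincipal
representation. -/
theorem value_ne_neg_deg [IsSimpleGroup G] (hG : ¬ IsMulCommutative G)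
    {χ : Cfsg.IrrCharacter G} (hχ1 : χ ≠ Setup.triv) {w : G} (hw : w ^ 2 = 1) (hw1 : w ≠ 1) :
    (χ : G → ℂ) w ≠ -(Setup.deg χ : ℂ) := by
  classical
  obtain ⟨m, ρ, hρ, hχρ⟩ := χ.2
  intro hval
  have hd : (Setup.deg χ : ℂ) = (Module.finrank ℂ (Fin m → ℂ) : ℂ) := by
    rw [← (Setup.deg_spec χ).2.2, ← hχρ, Representation.char_one]
  obtain ⟨b, ω, hω, -, hb, hk⟩ := CharCore.exists_eigenvalues ρ w
  have ha2 : ∀ i, ω i = 1 ∨ ω i = -1 := fun i => by
    apply sq_eq_one_iff.mp
    obtain ⟨c, hc⟩ := orderOf_dvd_of_pow_eq_one hw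
    rw [hc, pow_mul, hω i, one_pow]
  set S := Finset.univ.filter fun i => ω i = 1 with hS
  have hsum : ρ.character w = 2 * (S.card : ℂ) - (Module.finrank ℂ (Fin m → ℂ) : ℂ) := by
    have h1 := hk 1
    simp only [pow_one] at h1
    have : ∀ i, ω i = 2 * (if ω i = 1 then (1 : ℂ) else 0) - 1 := fun i => by
      rcases ha2 i with h | h <;> rw [h] <;> norm_num
    rw [h1, Finset.sum_congr rfl fun i _ => this i, Finset.sum_sub_distrib, ← Finset.mul_sum,
      Finset.sum_boole, ← hS]
    simp
  rw [hχρ, hval, hd] at hsum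
  have hS0 : S.card = 0 := by
    have : (2 : ℂ) * (S.card : ℂ) = 0 := by linear_combination -hsum
    simpa using this
  have hneg : ρ w = -LinearMap.id := by
    refine b.ext fun i => ?_
    rcases ha2 i with h | h
    · exfalso
      have : i ∈ S := by simp [hS, h]
      rw [Finset.card_eq_zero.mp hS0] at this
      simp at this
    · rw [hb, h]; simp
  have hcent : w ∈ Subgroup.center G := by
    refine Subgroup.mem_center_iff.mpr fun g => ?_
    have h1 : ρ ((g * w)⁻¹ * (w * g)) = LinearMap.id := by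
      have h2 : ρ (g * w) = ρ (w * g) := by
        rw [map_mul, map_mul, hneg]
        ext v
        simp
      rw [map_mul, ← h2, ← map_mul, inv_mul_cancel, map_one]
      rfl
    by_contra h
    refine value_ne_deg hχ1 (w := (g * w)⁻¹ * (w * g)) (fun h3 => h (inv_mul_eq_one.mp h3)) ?_
    rw [← hχρ, (CharCore.character_eq_finrank_iff ρ _).mpr h1, hd]
  rw [center_eq_bot_of_not_comm hG, Subgroup.mem_bot] at hcent
  exact hw1 hcent

open scoped Classical in
/-- The number of factorisations of `z` as a product of two conjugates of `y`. -/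
theorem card_pairs_mul_card (y z : G) :
    (Nat.card {q : G × G // IsConj y q.1 ∧ IsConj y q.2 ∧ q.1 * q.2 = z} : ℂ) *
        (Nat.card G : ℂ) =
      ((Subgroup.centralizer ({y} : Set G)).index : ℂ) ^ 2 *
        ∑ χ : Cfsg.IrrCharacter G,
          (χ : G → ℂ) y ^ 2 / (χ : G → ℂ) 1 * conj ((χ : G → ℂ) z) := by
  have hC : Nat.card {g : G // IsConj y g} = (Subgroup.centralizer ({y} : Set G)).index := by
    apply Nat.eq_of_mul_eq_mul_right (Nat.card_pos (α := Subgroup.centralizer ({y} : Set G)))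
    rw [card_conj_mul_centralizer, Subgroup.index_mul_card]
  have h := CharDeep.classFun_eq_sum (isClassFunction_conv (isClassFunction_classInd y)
    (isClassFunction_classInd y)) z
  rw [CharDeep.conv_classInd_apply] at h
  simp only [CharDeep.sum_conv_mul, hC] at h
  rw [h, Finset.sum_mul, Finset.mul_sum]
  have hne : (Nat.card G : ℂ) ≠ 0 := Nat.cast_ne_zero.mpr Nat.card_pos.ne'
  refine Finset.sum_congr rfl fun χ _ => ?_
  field_simp

/-- A central involution of a Sylow `2`-subgroup has class size dividing its index. -/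
theorem exists_involution_index_dvd (T : Sylow 2 G) (hT : 2 ∣ Nat.card G) :
    ∃ y : G, y ^ 2 = 1 ∧ y ≠ 1 ∧
      (Subgroup.centralizer ({y} : Set G)).index ∣ (T : Subgroup G).index := by
  have : Fact (Nat.Prime 2) := ⟨Nat.prime_two⟩
  have hnt : Nontrivial (T : Subgroup G) := by
    rw [← Finite.one_lt_card_iff_nontrivial]
    have := Nat.le_of_dvd Nat.card_pos (T.dvd_card_of_dvd_card hT)
    omega
  have hc := T.2.center_nontrivial
  have h2 : 2 ∣ Nat.card (Subgroup.center (T : Subgroup G)) := by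
    obtain ⟨n, hn, hn'⟩ := (T.2.to_subgroup _).nontrivial_iff_card.mp hc
    rw [hn']
    exact dvd_pow_self 2 hn.ne'
  obtain ⟨y, hy⟩ := exists_prime_orderOf_dvd_card' (G := Subgroup.center (T : Subgroup G)) 2 h2
  have hy' : orderOf (y.1 : G) = 2 := by rw [Subgroup.orderOf_coe, Subgroup.orderOf_coe, hy]
  refine ⟨(y.1 : G), orderOf_dvd_iff_pow_eq_one.mp hy'.dvd,
    fun h => by rw [h, orderOf_one] at hy'; norm_num at hy', Subgroup.index_dvd_of_le ?_⟩
  intro g hg
  rw [Subgroup.mem_centralizer_singleton_iff]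
  exact congrArg Subtype.val (Subgroup.mem_center_iff.mp y.2 ⟨g, hg⟩)

end Cfsg.Agent.SmallGroups.SelfCent
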