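import Cfsg.Agent.Lib.SmallGroups.SelfCent.Normal
import Cfsg.Agent.CharDeep.Expand

/-!
# A self-centralising element of prime order with `|N : C| = 2`

The principal characters are `1`, one character of degree `a` and `(p-1)/2` exceptional ones of
degree `b` with `1 + δ a = ε b`; counting the pairs of conjugate involutions with product `z`
gives that `(|G| / p) a b` is a square.
-/

set_option autoImplicit false

open scoped ComplexConjugate

namespace Cfsg.Agent.SmallGroups.SelfCent

open Subgroup

theorem exists_setup_of_prime {G : Type*} [Group G] [Finite G] {p : ℕ} [hp : Fact p.Prime]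
    (P : Subgroup G) (hP : Nat.card P = p) (hC : centralizer (P : Set G) = P) :
    ∃ s : Setup G p, s.K = ⊥ ∧ zpowers s.z = P ∧
      Nat.card (normalizer (P : Set G)) = Nat.card s.auto * p := by
  obtain ⟨y, hy⟩ := exists_prime_orderOf_dvd_card' (G := ↥P) p (by rw [hP])
  have hy' : orderOf (y : G) = p := (orderOf_coe y).trans hy
  have hzp : zpowers (y : G) = P :=
    eq_of_le_of_card_ge (zpowers_le.mpr y.2) (by rw [Nat.card_zpowers, hy', hP])
  let s : Setup G p :=
    { z := (y : G)
      K := ⊥
      orderOf_z := hy'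
      comm := fun w hw => by rw [mem_bot.mp hw, one_mul, mul_one]
      not_dvd := by rw [card_bot]; exact hp.out.not_dvd_one
      card_cent := by
        rw [← centralizer_closure, ← zpowers_eq_closure, hzp, hC, hP, card_bot, mul_one] }
  refine ⟨s, rfl, hzp, ?_⟩
  have := Fintype.ofFinite G
  have h := s.card_normalizer
  rw [show zpowers s.z = P from hzp, show Nat.card s.K = 1 from card_bot, mul_one] at h
  exact h

theorem exists_int_of_sq_eq_one {G : Type*} [Group G] [Fintype G] (χ : Cfsg.IrrCharacter G)
    {x : G} (hx : x ^ 2 = 1) : ∃ n : ℤ, (χ : G → ℂ) x = n := by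
  obtain ⟨m, ρ, hρ, hχ⟩ := χ.2
  obtain ⟨b, ω, hω, -, -, hk⟩ := CharCore.exists_eigenvalues ρ x
  refine ⟨∑ i, if ω i = 1 then 1 else -1, ?_⟩
  have h1 : ρ.character x = ∑ i, ω i := by simpa using hk 1
  rw [← hχ, h1, Int.cast_sum]
  refine Finset.sum_congr rfl fun i _ => ?_
  have h2 : ω i ^ 2 = 1 := by
    obtain ⟨c, hc⟩ := orderOf_dvd_of_pow_eq_one hx
    rw [hc, pow_mul, hω i, one_pow]
  rcases sq_eq_one_iff.mp h2 with h | h
  · simp [h]
  · rw [h, if_neg (by norm_num)]
    simp

theorem deg_eq_one_iff {G : Type*} [Group G] [Fintype G] [IsSimpleGroup G]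
    (hG : ¬ IsMulCommutative G) (χ : Cfsg.IrrCharacter G) :
    Setup.deg χ = 1 ↔ χ = Setup.triv := by
  constructor
  · intro h
    have h1 : (χ : G → ℂ) 1 = 1 := by rw [(Setup.deg_spec χ).2.2, h]; simp
    obtain ⟨f, hf⟩ := CharCore.IsCharacter.exists_hom_of_degree_one
      (CharCore.irr_isCharacter χ) h1
    rcases f.normal_ker.eq_bot_or_eq_top with hb | hb
    · exfalso
      apply hG
      refine isMulCommutative_iff.mpr fun a b => (MonoidHom.ker_eq_bot_iff f).mp hb ?_
      simp [mul_comm]
    · apply Subtype.ext
      funext g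
      have hg : f g = 1 := MonoidHom.mem_ker.mp (hb ▸ mem_top g)
      simp [hf, hg, Setup.triv]
  · rintro rfl
    exact Setup.deg_triv

namespace Setup

variable {G : Type*} [Group G] [Fintype G] {p : ℕ} [hp : Fact p.Prime] (s : Setup G p)

/-- For `e = 2`: normalised data, with a single further character `χa`. -/
theorem exists_two_data [Fintype s.Orb] [DecidableEq (Cfsg.IrrCharacter G)] (hp5 : 5 ≤ p)
    (he : Nat.card s.auto = 2) :
    ∃ (D : s.Data) (χa : Cfsg.IrrCharacter G) (δ : ℤ), (δ = 1 ∨ δ = -1) ∧ χa ≠ triv ∧
      (∀ o, χa ≠ D.f o) ∧ D.c χa = -δ ∧ D.d = 0 ∧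
      ∀ χ, χ ≠ triv → χ ≠ χa → D.c χ = 0 := by
  classical
  have ht : 2 ≤ Nat.card s.Orb := by
    have := s.card_orb_mul
    rw [he] at this
    omega
  obtain ⟨D⟩ := s.nonempty_data ht
  -- make `d = 0`
  obtain ⟨D, hd⟩ : ∃ D : s.Data, D.d = 0 := by
    by_cases hd : D.d = 0
    · exact ⟨D, hd⟩
    set S := Finset.univ.image D.f
    have hS : Setup.triv ∉ S := by
      intro h
      obtain ⟨o, -, ho⟩ := Finset.mem_image.mp h
      exact D.triv_ne o ho
    have hsum : ∑ χ ∈ S, D.c χ * D.c χ = (Nat.card s.Orb : ℤ) * (D.d * D.d) := by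
      rw [Finset.sum_image fun a _ b _ h => D.inj h]
      simp [D.c_f, Nat.card_eq_fintype_card]
    have hle : 1 + (Nat.card s.Orb : ℤ) * (D.d * D.d) ≤ ∑ χ, D.c χ * D.c χ := by
      rw [← hsum]
      calc (1 : ℤ) + ∑ χ ∈ S, D.c χ * D.c χ
          = ∑ χ ∈ insert Setup.triv S, D.c χ * D.c χ := by
            rw [Finset.sum_insert hS, D.c_triv]; norm_num
        _ ≤ _ := Finset.sum_le_univ_sum_of_nonneg (fun χ => mul_self_nonneg _)
    have hn := D.norm_eq
    rw [he] at hn
    push_cast at hn
    have ht' : (2 : ℤ) ≤ (Nat.card s.Orb : ℤ) := by exact_mod_cast ht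
    have heps := D.eps_eq
    have hd1 : D.d = -D.eps ∧ ((Nat.card s.Orb : ℤ) = 2 ∨ (Nat.card s.Orb : ℤ) = 3) := by
      have hpos : 1 ≤ D.d * D.d := by
        have : 0 < D.d * D.d := mul_self_pos.mpr hd
        linarith
      rcases heps with h | h <;> rw [h] at hn ⊢
      · have h1 : -1 ≤ D.d := by nlinarith
        have h2 : D.d ≤ 1 := by nlinarith
        interval_cases hd' : D.d <;> omega
      · have h1 : -1 ≤ D.d := by nlinarith
        have h2 : D.d ≤ 1 := by nlinarith
        interval_cases hd' : D.d <;> omega
    obtain ⟨hdeps, h23⟩ := hd1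
    have hdd : D.d * D.d = 1 := by rw [hdeps]; linear_combination D.eps_sq
    rcases h23 with h2 | h3
    · -- two exceptional characters: interchange them
      have hcard : Nat.card s.Orb = 2 := by exact_mod_cast h2
      have hother : ∀ o : s.Orb, ∃! o', o' ≠ o := fun o => (Nat.card_eq_two_iff' o).mp hcard
      choose σ hσ using fun o => (hother o).exists
      have huniq : ∀ o o', o' ≠ o → o' = σ o := fun o o' h => (hother o).unique h (hσ o)
      have hσ2 : ∀ o, σ (σ o) = o := fun o => (huniq _ _ (hσ o).symm).symm
      refine ⟨{ eps := -D.eps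
                f := fun o => D.f (σ o)
                c := fun χ => D.c χ + if χ ∈ S then D.eps else 0
                d := 0
                b := D.b
                eps_eq := ?_
                inj := ?_
                vec_eq := ?_
                c_f := ?_
                deg_f := fun o => D.deg_f _
                norm_eq := ?_
                degree_eq := ?_
                triv_ne := fun o => D.triv_ne _
                c_triv := ?_ }, rfl⟩
      · rcases heps with h | h <;> rw [h] <;> norm_num
      · intro o o' h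
        rw [← hσ2 o, ← hσ2 o', D.inj h]
      · intro o χ
        rw [D.vec_eq]
        by_cases h1 : χ = D.f o
        · subst h1
          have hm : D.f o ∈ S := Finset.mem_image_of_mem _ (Finset.mem_univ _)
          rw [if_pos rfl, if_pos hm, if_neg (D.inj.ne (hσ o).symm)]
          ring
        · rw [if_neg h1, add_zero]
          by_cases h2 : χ = D.f (σ o)
          · subst h2
            have hm : D.f (σ o) ∈ S := Finset.mem_image_of_mem _ (Finset.mem_univ _)
            rw [if_pos rfl, if_pos hm]; ring
          · have hm : χ ∉ S := by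
              intro hm
              obtain ⟨o', -, rfl⟩ := Finset.mem_image.mp hm
              by_cases h : o' = o
              · exact h1 (by rw [h])
              · exact h2 (by rw [huniq o o' h])
            rw [if_neg h2, if_neg hm]; ring
      · intro o
        have hm : D.f (σ o) ∈ S := Finset.mem_image_of_mem _ (Finset.mem_univ _)
        rw [if_pos hm, D.c_f, hdeps]; ring
      · have e1 : ∀ χ, (D.c χ + if χ ∈ S then D.eps else 0) * (D.c χ + if χ ∈ S then D.eps else 0)
            = D.c χ * D.c χ + if χ ∈ S then 2 * D.eps * D.c χ + 1 else 0 := by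
          intro χ
          split_ifs
          · linear_combination D.eps_sq
          · ring
        simp only [e1, Finset.sum_add_distrib, Finset.sum_ite_mem, Finset.univ_inter, mul_zero,
          add_zero]
        rw [Finset.sum_image fun a _ b _ h => D.inj h, Finset.sum_image fun a _ b _ h => D.inj h]
        simp only [D.c_f, Finset.sum_const, Finset.card_univ, nsmul_eq_mul, mul_one,
          ← Nat.card_eq_fintype_card, hcard]
        rw [he]
        push_cast
        rw [hdeps] at hn ⊢
        linear_combination hn - 2 * D.eps_sq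
      · simp only [mul_add, Finset.sum_add_distrib, mul_ite, mul_zero, Finset.sum_ite_mem,
          Finset.univ_inter]
        rw [Finset.sum_image fun a _ b _ h => D.inj h]
        simp only [D.deg_f, Finset.sum_const, Finset.card_univ, nsmul_eq_mul,
          ← Nat.card_eq_fintype_card, hcard]
        push_cast
        linear_combination D.degree_eq
      · rw [if_neg hS, add_zero]; exact D.c_triv
    · -- three exceptional characters cannot be
      exfalso
      rw [h3, hdd] at hle
      have hzero : ∀ χ, χ ≠ triv → χ ∉ S → D.c χ = 0 := by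
        intro χ h1 h2'
        have : (∑ χ ∈ insert χ (insert Setup.triv S), D.c χ * D.c χ) ≤ ∑ χ, D.c χ * D.c χ :=
          Finset.sum_le_univ_sum_of_nonneg (fun χ => mul_self_nonneg _)
        rw [Finset.sum_insert (by simp [h1, h2']), Finset.sum_insert hS, hsum, h3, hdd,
          D.c_triv] at this
        have h4 : 2 * D.eps * D.d = -2 := by rw [hdeps]; linear_combination (-2) * D.eps_sq
        have h5 : D.c χ * D.c χ ≤ 0 := by linarith
        exact mul_self_eq_zero.mp (le_antisymm h5 (mul_self_nonneg _))
      have hdeg := D.degree_eq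
      rw [← Finset.sum_subset (Finset.subset_univ (insert Setup.triv S)) (fun χ _ hχ => by
        simp only [Finset.mem_insert, not_or] at hχ
        rw [hzero χ hχ.1 hχ.2, mul_zero]), Finset.sum_insert hS, D.c_triv, deg_triv,
        Finset.sum_image fun a _ b _ h => D.inj h] at hdeg
      simp only [D.deg_f, D.c_f, Finset.sum_const, Finset.card_univ, nsmul_eq_mul] at hdeg
      rw [← Nat.card_eq_fintype_card, hdeps] at hdeg
      push_cast at hdeg h3
      rw [h3] at hdeg
      rcases heps with h | h <;> rw [h] at hdeg <;> omega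
  have hn := D.norm_eq
  rw [he, hd, mul_zero, add_zero] at hn
  have hsplit : ∑ χ ∈ Finset.univ.erase Setup.triv, D.c χ * D.c χ = 1 := by
    rw [← Finset.add_sum_erase _ _ (Finset.mem_univ Setup.triv), D.c_triv] at hn
    push_cast at hn
    linarith
  obtain ⟨χa, hmem, hne0⟩ := Finset.exists_ne_zero_of_sum_ne_zero (hsplit ▸ one_ne_zero)
  rw [← Finset.add_sum_erase _ _ hmem] at hsplit
  have hrest : 0 ≤ ∑ χ ∈ (Finset.univ.erase Setup.triv).erase χa, D.c χ * D.c χ :=
    Finset.sum_nonneg fun χ _ => mul_self_nonneg _
  have hpos : 0 < D.c χa * D.c χa :=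
    lt_of_le_of_ne (mul_self_nonneg _) (Ne.symm hne0)
  refine ⟨D, χa, -D.c χa, ?_, Finset.ne_of_mem_erase hmem, fun o ho => hne0 ?_, by ring, hd,
    fun χ h1 h2 => ?_⟩
  · have h1 : D.c χa * D.c χa = 1 := by linarith
    rcases mul_self_eq_one_iff.mp h1 with h | h <;> rw [h] <;> norm_num
  · rw [ho, D.c_f, hd, mul_zero]
  · have h0 : ∑ χ ∈ (Finset.univ.erase Setup.triv).erase χa, D.c χ * D.c χ = 0 := by linarith
    exact mul_self_eq_zero.mp ((Finset.sum_eq_zero_iff_of_nonneg
      fun χ _ => mul_self_nonneg _).mp h0 χ (by simp [h1, h2]))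

end Setup

end Cfsg.Agent.SmallGroups.SelfCent
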