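import Cfsg.Agent.Lib.SmallGroups.SelfCent.Principal
import Cfsg.Agent.Lib.SmallGroups.SelfCent.Two
import Cfsg.Agent.CharDeep.Ext.DetChar

/-!
# Values of principal block characters at an involution centralising a Sylow subgroup of prime order
-/

set_option autoImplicit false

namespace Cfsg.Agent.SmallGroups.SelfCent

open BlocksCore

variable {G : Type*} [Group G] [Fintype G] {p : ℕ} [hp : Fact p.Prime] {M : Ideal Cfsg.AlgInt}

/-- The sum of a character over the odd powers of an element of order dividing `2 p` is a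
multiple of `p`. -/
theorem exists_sum_odd_pow_eq (χ : Cfsg.IrrCharacter G) {g : G} (hg : g ^ (2 * p) = 1) :
    ∃ N : ℤ, ∑ j ∈ Finset.range p, (χ : G → ℂ) (g ^ (2 * j + 1)) = (p : ℂ) * N := by
  obtain ⟨m, ρ, hρ, hχ⟩ := χ.2
  obtain ⟨b, ω, hω, -, -, hk⟩ := CharCore.exists_eigenvalues ρ g
  have hω2p : ∀ i, (ω i ^ 2) ^ p = 1 := fun i => by
    obtain ⟨c, hc⟩ := orderOf_dvd_of_pow_eq_one hg
    rw [← pow_mul, hc, pow_mul, hω i, one_pow]
  refine ⟨∑ i, if ω i = 1 then 1 else if ω i = -1 then -1 else 0, ?_⟩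
  rw [← hχ]
  simp only [hk, Int.cast_sum, Finset.mul_sum]
  rw [Finset.sum_comm]
  refine Finset.sum_congr rfl fun i _ => ?_
  rw [Finset.sum_congr rfl (fun j _ => show ω i ^ (2 * j + 1) = (ω i ^ 2) ^ j * ω i by
    rw [pow_succ, pow_mul]), ← Finset.sum_mul]
  by_cases h : ω i ^ 2 = 1
  · rw [h]
    rcases sq_eq_one_iff.mp h with h1 | h1
    · simp [h1]
    · rw [h1, if_neg (by norm_num), if_pos rfl]
      simp
  · rw [geom_sum_eq h, hω2p i, sub_self, zero_div, zero_mul, if_neg (fun h1 => h (by simp [h1])),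
      if_neg (fun h1 => h (by simp [h1]))]
    simp

namespace Setup

variable (s : Setup G p)

/-- The value of a nontrivial principal block character at an involution `w ∈ K` is an integer
`n ≠ deg` with `|n| ≤ deg`, congruent to the degree modulo `p` and modulo `4`. -/
theorem exists_involution_value [IsSimpleGroup G] (hG : ¬ IsMulCommutative G)
    (hM : Cfsg.IsPModular p M) (hp2 : p ≠ 2) {χ : Cfsg.IrrCharacter G}
    (hχ : χ ∈ Cfsg.principalBlock M G) (hχ1 : χ ≠ triv) {w : G} (hw : w ∈ s.K)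
    (hw2 : orderOf w = 2) :
    ∃ n : ℤ, (χ : G → ℂ) w = n ∧ -(deg χ : ℤ) ≤ n ∧ n < (deg χ : ℤ) ∧
      (p : ℤ) ∣ (deg χ : ℤ) - n ∧ (4 : ℤ) ∣ (deg χ : ℤ) - n := by
  classical
  have hodd := hp.out.odd_of_ne_two hp2
  obtain ⟨m, ρ, hρ, hχρ⟩ := χ.2
  have hcomm : Commute s.z w := (s.comm w hw).symm
  have hzp : s.z ^ p = 1 := orderOf_dvd_iff_pow_eq_one.mp s.orderOf_z.dvd
  have hz2p : s.z ^ (2 * p) = 1 := by rw [mul_comm, pow_mul, hzp, one_pow]
  have hwsq : w ^ 2 = 1 := by rw [← hw2, pow_orderOf_eq_one]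
  have hgpow : ∀ j, (s.z * w) ^ (2 * j + 1) = s.z ^ (2 * j + 1) * w := fun j => by
    rw [hcomm.mul_pow, pow_succ w, pow_mul w, hwsq, one_pow, one_mul]
  have hgp : (s.z * w) ^ p = w := by
    obtain ⟨j, hj⟩ := hodd
    have h := hgpow j
    rwa [← hj, hzp, one_mul] at h
  have hg2p : (s.z * w) ^ (2 * p) = 1 := by rw [mul_comm, pow_mul, hgp, hwsq]
  obtain ⟨b, ω, hω, -, hb, hk⟩ := CharCore.exists_eigenvalues ρ (s.z * w)
  set a : Fin (Module.finrank ℂ (Fin m → ℂ)) → ℂ := fun i => ω i ^ p with ha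
  have ha2 : ∀ i, a i = 1 ∨ a i = -1 := fun i => by
    apply sq_eq_one_iff.mp
    obtain ⟨c, hc⟩ := orderOf_dvd_of_pow_eq_one hg2p
    show (ω i ^ p) ^ 2 = 1
    rw [← pow_mul, mul_comm p, hc, pow_mul, hω i, one_pow]
  have hbw : ∀ i, ρ w (b i) = a i • b i := fun i => by
    conv_lhs => rw [← hgp, map_pow]
    exact CharCore.pow_apply_of_eigenbasis b ω _ hb p i
  set S := Finset.univ.filter fun i => a i = -1 with hS
  have hval : (χ : G → ℂ) w = ((Module.finrank ℂ (Fin m → ℂ) : ℤ) - 2 * (S.card : ℤ) : ℤ) := by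
    rw [← hχρ, ← hgp, hk p]
    have : ∀ i, a i = 1 - 2 * (if a i = -1 then (1 : ℂ) else 0) := fun i => by
      rcases ha2 i with h | h <;> rw [h] <;> norm_num
    show ∑ i, a i = _
    rw [Finset.sum_congr rfl fun i _ => this i, Finset.sum_sub_distrib, ← Finset.mul_sum,
      Finset.sum_boole, ← hS]
    simp
  have hdeg : (deg χ : ℤ) = (Module.finrank ℂ (Fin m → ℂ) : ℤ) := by
    have h := (deg_spec χ).2.2
    rw [← hχρ, Representation.char_one] at h
    exact_mod_cast h.symm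
  -- the determinant is trivial
  have hS2 : Even S.card := by
    let f : G →* ℂˣ := (LinearMap.det.comp ρ).toHomUnits
    have hf : f w = 1 := by
      rcases f.normal_ker.eq_bot_or_eq_top with h | h
      · exact absurd (isMulCommutative_iff.mpr fun x y =>
          (MonoidHom.ker_eq_bot_iff f).mp h (by rw [map_mul, map_mul, mul_comm])) hG
      · exact MonoidHom.mem_ker.mp (h ▸ Subgroup.mem_top w)
    have h1 : LinearMap.det (ρ w) = 1 := congrArg Units.val hf
    rw [CharDeep.Ext.det_eq_prod_eigen b a _ hbw] at h1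
    have h2 : ∏ i, a i = (-1) ^ S.card := by
      have h3 : ∀ i, a i = if a i = -1 then -1 else 1 := fun i => by
        rcases ha2 i with h | h <;> rw [h] <;> norm_num
      rw [Finset.prod_congr rfl fun i _ => h3 i, Finset.prod_ite, Finset.prod_const_one, mul_one,
        Finset.prod_const, ← hS]
    rw [h2] at h1
    exact (neg_one_pow_eq_one_iff_even (by norm_num)).mp h1
  have hle : S.card ≤ Module.finrank ℂ (Fin m → ℂ) := by
    have := Finset.card_le_univ S
    simpa using this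
  have hne : S.card ≠ 0 := by
    intro h0
    rw [h0, Nat.cast_zero, mul_zero, sub_zero, Int.cast_natCast, ← hχρ] at hval
    have hid := (CharCore.character_eq_finrank_iff ρ w).mp hval
    let φ : G →* Module.End ℂ (Fin m → ℂ) := ρ
    have hker : φ.ker = ⊤ := φ.normal_ker.eq_bot_or_eq_top.resolve_left fun h => by
      have hw1 : w = 1 := (Subgroup.mem_bot).mp (h ▸ (MonoidHom.mem_ker.mpr hid : w ∈ φ.ker))
      rw [hw1, orderOf_one] at hw2
      norm_num at hw2
    have hconst : ∀ g, (χ : G → ℂ) g = (deg χ : ℂ) := fun g => by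
      have h1 : φ g = 1 := MonoidHom.mem_ker.mp (hker ▸ Subgroup.mem_top g)
      rw [← hχρ, (CharCore.character_eq_finrank_iff ρ g).mpr h1]
      exact_mod_cast hdeg.symm
    have h2 := CharCore.classInner_irr_of_ne hχ1
    simp only [Cfsg.classInner, hconst, triv, Pi.one_apply, map_one, mul_one,
      Finset.sum_const, Finset.card_univ, nsmul_eq_mul,
      ← Nat.card_eq_fintype_card] at h2
    have hd0 : (deg χ : ℂ) ≠ 0 := Nat.cast_ne_zero.mpr (deg_spec χ).1.ne'
    simp [hd0] at h2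
  obtain ⟨c, hc⟩ := hS2
  refine ⟨_, hval, by omega, by omega, ?_, ⟨(c : ℤ), by omega⟩⟩
  -- congruence modulo `p`
  obtain ⟨N₀, hN₀⟩ := exists_sum_odd_pow_eq (p := p) χ hz2p
  obtain ⟨N₁, hN₁⟩ := exists_sum_odd_pow_eq (p := p) χ hg2p
  obtain ⟨j₀, hj₀⟩ := hodd
  have hmem : j₀ ∈ Finset.range p := Finset.mem_range.mpr (by omega)
  rw [← Finset.add_sum_erase _ _ hmem, ← hj₀] at hN₀ hN₁
  rw [hgp] at hN₁
  rw [hzp] at hN₀
  have heq : ∀ j ∈ (Finset.range p).erase j₀, (χ : G → ℂ) ((s.z * w) ^ (2 * j + 1)) =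
      (χ : G → ℂ) (s.z ^ (2 * j + 1)) := by
    intro j hj
    obtain ⟨hjne, hjr⟩ := Finset.mem_erase.mp hj
    rw [Finset.mem_range] at hjr
    have hk0 : ((2 * j + 1 : ℕ) : ZMod p) ≠ 0 := by
      rw [Ne, ZMod.natCast_eq_zero_iff]
      rintro ⟨q, hq⟩
      rcases (show q = 0 ∨ q = 1 ∨ 2 ≤ q by omega) with rfl | rfl | h
      · omega
      · omega
      · have := Nat.mul_le_mul_left p h; omega
    rw [hgpow, ← s.zp_natCast, s.apply_zp_mul hM hχ hk0 hw]
  rw [Finset.sum_congr rfl heq] at hN₁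
  refine ⟨N₀ - N₁, ?_⟩
  apply Int.cast_injective (α := ℂ)
  rw [Int.cast_sub, Int.cast_natCast, ← hval, ← (deg_spec χ).2.2, Int.cast_mul, Int.cast_sub,
    Int.cast_natCast, mul_sub, ← hN₀, ← hN₁]
  ring

end Setup

omit hp in
/-- The degree divides the class size times a rational integer value. -/
theorem deg_dvd_index_mul (χ : Cfsg.IrrCharacter G) {w : G} {n : ℤ}
    (hn : (χ : G → ℂ) w = n) :
    (Setup.deg χ : ℤ) ∣ ((Subgroup.centralizer ({w} : Set G)).index : ℤ) * n := by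
  have h := BlocksCore.isIntegral_centralChar χ w
  rw [Cfsg.centralChar, hn, (Setup.deg_spec χ).2.2] at h
  have hd : (Setup.deg χ : ℚ) ≠ 0 := Nat.cast_ne_zero.mpr (Setup.deg_spec χ).1.ne'
  have h' : IsIntegral ℤ (((((Subgroup.centralizer ({w} : Set G)).index : ℤ) * n : ℤ) : ℚ) /
      (Setup.deg χ : ℚ)) := by
    rw [← isIntegral_algebraMap_iff (algebraMap ℚ ℂ).injective (R := ℤ)]
    simpa using h
  obtain ⟨k, hk⟩ := IsIntegrallyClosed.isIntegral_iff.mp h'
  refine ⟨k, ?_⟩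
  rw [eq_div_iff hd] at hk
  apply Int.cast_injective (α := ℚ)
  rw [← hk]
  push_cast
  rw [show (algebraMap ℤ ℚ) k = (k : ℚ) from rfl]
  ring

omit hp in
/-- A few values bound the centraliser order from below. -/
theorem sum_sq_le_card_centralizer [DecidableEq (Cfsg.IrrCharacter G)]
    (S : Finset (Cfsg.IrrCharacter G)) (v : Cfsg.IrrCharacter G → ℤ) {w : G}
    (hv : ∀ χ ∈ S, (χ : G → ℂ) w = v χ) :
    ∑ χ ∈ S, v χ ^ 2 ≤ (Nat.card (Subgroup.centralizer ({w} : Set G)) : ℤ) := by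
  classical
  have h := CharCore.sum_apply_mul_conj w w
  rw [if_pos (IsConj.refl w)] at h
  have h1 : ∑ χ : Cfsg.IrrCharacter G, Complex.normSq ((χ : G → ℂ) w) =
      (Nat.card (Subgroup.centralizer ({w} : Set G)) : ℝ) := by
    apply Complex.ofReal_injective
    push_cast
    rw [← h]
    exact Finset.sum_congr rfl fun χ _ => (Complex.mul_conj _).symm
  have h2 : ∑ χ ∈ S, Complex.normSq ((χ : G → ℂ) w) ≤
      ∑ χ : Cfsg.IrrCharacter G, Complex.normSq ((χ : G → ℂ) w) :=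
    Finset.sum_le_univ_sum_of_nonneg fun χ => Complex.normSq_nonneg _
  rw [h1, Finset.sum_congr rfl (g := fun χ => ((v χ ^ 2 : ℤ) : ℝ)) (fun χ hχ => by
    rw [hv χ hχ, Complex.normSq_intCast]; push_cast; ring), ← Int.cast_sum] at h2
  exact_mod_cast h2

end Cfsg.Agent.SmallGroups.SelfCent
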