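import Cfsg.Agent.Lib.SmallGroups.SelfCent.Structure

/-!
# The exceptional characters for a general index `e`
-/

set_option autoImplicit false

open scoped ComplexConjugate

namespace Cfsg.Agent.SmallGroups.SelfCent

open Subgroup

/-- The exceptional data of a set-up: signs, indices and the common vector `c`. -/
structure Setup.Data {G : Type*} [Group G] [Fintype G] {p : ℕ} [Fact p.Prime] (s : Setup G p)
    [Fintype s.Orb] [DecidableEq (Cfsg.IrrCharacter G)] where
  eps : ℤ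
  f : s.Orb → Cfsg.IrrCharacter G
  c : Cfsg.IrrCharacter G → ℤ
  d : ℤ
  b : ℕ
  eps_eq : eps = 1 ∨ eps = -1
  inj : Function.Injective f
  vec_eq : ∀ o χ, s.vecO χ o = c χ + if χ = f o then eps else 0
  c_f : ∀ o, c (f o) = d
  deg_f : ∀ o, deg (f o) = b
  norm_eq : (∑ χ, c χ * c χ) + 2 * eps * d = (Nat.card s.auto : ℤ)
  degree_eq : (∑ χ, (deg χ : ℤ) * c χ) + eps * b = 0
  triv_ne : ∀ o, f o ≠ Setup.triv
  c_triv : c Setup.triv = -1

namespace Setup

variable {G : Type*} [Group G] [Fintype G] {p : ℕ} [hp : Fact p.Prime] (s : Setup G p)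

theorem nonempty_data [Fintype s.Orb] [DecidableEq (Cfsg.IrrCharacter G)] (ht : 2 ≤ Nat.card s.Orb) :
    Nonempty s.Data := by
  classical
  have : Nontrivial s.Orb := by
    rw [← Finite.one_lt_card_iff_nontrivial]; omega
  obtain ⟨ε, f, c, d, b, hε, hinj, hv, hcf, hwf, hnorm, hdeg⟩ :=
    exists_exceptional (fun χ : Cfsg.IrrCharacter G => (deg χ : ℤ))
      (fun χ => by exact_mod_cast (deg_spec χ).1) (fun o χ => s.vecO χ o) (Nat.card s.auto : ℤ)
      (fun i j => s.gram_orb i j) (fun o => s.sum_deg_mul_vecO o)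
  obtain ⟨o₀⟩ : Nonempty s.Orb := inferInstance
  have hb : 0 ≤ b := (hwf o₀) ▸ Int.natCast_nonneg _
  have htriv : ∀ o, f o ≠ triv := by
    intro o ho
    obtain ⟨o', ho'⟩ := exists_ne o
    have h1 := hv o triv
    have h2 := hv o' triv
    rw [s.vecO_triv] at h1 h2
    rw [← ho] at h1 h2
    rw [if_pos rfl] at h1
    rw [if_neg (hinj.ne ho'.symm)] at h2
    rcases hε with rfl | rfl <;> omega
  refine ⟨⟨ε, f, c, d, b.toNat, hε, hinj, hv, hcf, fun o => ?_, hnorm, ?_, htriv, ?_⟩⟩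
  · have := hwf o
    omega
  · rw [Int.toNat_of_nonneg hb]; exact hdeg
  · have h := hv o₀ triv
    rw [s.vecO_triv, if_neg (htriv o₀).symm, add_zero] at h
    exact h.symm

variable {s} [Fintype s.Orb] [DecidableEq (Cfsg.IrrCharacter G)]

theorem Data.eps_sq (D : s.Data) : D.eps * D.eps = 1 := by
  rcases D.eps_eq with h | h <;> rw [h] <;> rfl

theorem Data.sum_vec (D : s.Data) (χ : Cfsg.IrrCharacter G) :
    ∑ o, s.vecO χ o = (Nat.card s.Orb : ℤ) * D.c χ + if ∃ o, χ = D.f o then D.eps else 0 := by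
  classical
  simp only [D.vec_eq, Finset.sum_add_distrib, Finset.sum_const, Finset.card_univ,
    ← Nat.card_eq_fintype_card, nsmul_eq_mul]
  congr 1
  split_ifs with h
  · obtain ⟨o, rfl⟩ := h
    rw [Finset.sum_eq_single o, if_pos rfl]
    · exact fun o' _ ho' => if_neg (D.inj.ne ho'.symm)
    · simp
  · exact Finset.sum_eq_zero fun o _ => if_neg fun ho => h ⟨o, ho⟩

/-- Congruence for the dimension of the `K`-fixed part. -/
theorem Data.fix_congr (D : s.Data) (χ : Cfsg.IrrCharacter G) [Decidable (∃ o, χ = D.f o)] :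
    ∃ n : ℕ, n ≤ deg χ ∧ (s.K = ⊥ → n = deg χ) ∧
      (n : ℤ) ≡ -D.c χ + (if ∃ o, χ = D.f o then (Nat.card s.auto : ℤ) * D.eps else 0) [ZMOD p] := by
  obtain ⟨n, hn, hle, hmod⟩ := s.exists_fix χ
  refine ⟨n, hle, fun hK => ?_, hmod.trans ?_⟩
  · have h := s.phi_zero_of_bot hK χ
    rw [hn, (deg_spec χ).2.2] at h
    exact_mod_cast h
  rw [D.sum_vec, mul_add, ← mul_assoc]
  have h1 : (Nat.card s.auto : ℤ) * (Nat.card s.Orb : ℤ) = (p : ℤ) - 1 := by
    rw [mul_comm, ← Nat.cast_mul, s.card_orb_mul, Nat.cast_sub hp.out.one_le]; rfl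
  rw [h1]
  refine Int.ModEq.add ?_ ?_
  · rw [Int.modEq_iff_dvd]
    exact ⟨-D.c χ, by ring⟩
  · split_ifs <;> simp [Int.ModEq]

/-- The vector of a non-exceptional character is constant, so its degree divides `(|G|/p) c`. -/
theorem Data.deg_dvd (D : s.Data) (χ : Cfsg.IrrCharacter G) (hχ : ∀ o, χ ≠ D.f o) :
    (deg χ : ℤ) ∣ ((Nat.card G / p : ℕ) : ℤ) * D.c χ :=
  s.deg_dvd_of_const χ (D.c χ) fun o => by rw [D.vec_eq, if_neg (hχ o), add_zero]

/-- For `K = 1` exceptional degrees prime to `p` divide `|G| / p`. -/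
theorem Data.deg_dvd_exceptional (D : s.Data) (o : s.Orb) (h : ¬ p ∣ D.b) :
    D.b ∣ Nat.card G / p := by
  have h1 : D.b ∣ Nat.card G := D.deg_f o ▸ (deg_spec (D.f o)).2.1
  have hdiv : p ∣ Nat.card G := s.orderOf_z ▸ orderOf_dvd_natCard s.z
  rw [← Nat.div_mul_cancel hdiv] at h1
  exact ((hp.out.coprime_iff_not_dvd.mpr h).symm).dvd_of_dvd_mul_right h1

/-- Values at an element `g` meeting no `z ^ k K`. -/
theorem Data.value_eq (D : s.Data) {g : G}
    (hg : ∀ k : ZMod p, k ≠ 0 → ∀ w ∈ s.K, ¬ IsConj g (s.zp k * w)) (o : s.Orb) :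
    (∑ χ : Cfsg.IrrCharacter G, (χ : G → ℂ) g * (D.c χ : ℂ)) +
      (D.eps : ℂ) * (D.f o : G → ℂ) g = 0 := by
  rw [← s.sum_vec_mul_apply hg ((Quotient.out o : (ZMod p)ˣ) : ZMod p)]
  have : ∀ χ : Cfsg.IrrCharacter G, s.vec χ ((Quotient.out o : (ZMod p)ˣ) : ZMod p) =
      D.c χ + if χ = D.f o then D.eps else 0 := fun χ => D.vec_eq o χ
  simp only [this, Int.cast_add, Int.cast_ite, Int.cast_zero, mul_add, Finset.sum_add_distrib,
    mul_ite, mul_zero, Finset.sum_ite_eq', Finset.mem_univ, if_true]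
  ring

/-- The square degrees of the exceptional characters and of a set avoiding them. -/
theorem Data.sum_sq_le (D : s.Data) (S : Finset (Cfsg.IrrCharacter G))
    (hS : ∀ o, D.f o ∉ S) :
    (∑ χ ∈ S, deg χ ^ 2) + Nat.card s.Orb * D.b ^ 2 ≤ Nat.card G := by
  classical
  have hsq : ∑ χ : Cfsg.IrrCharacter G, deg χ ^ 2 = Nat.card G := by
    have h := CharCore.sum_degree_sq (G := G)
    simp only [(deg_spec _).2.2] at h
    exact_mod_cast h
  rw [← hsq]
  calc (∑ χ ∈ S, deg χ ^ 2) + Nat.card s.Orb * D.b ^ 2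
      = (∑ χ ∈ S, deg χ ^ 2) + ∑ χ ∈ Finset.univ.image D.f, deg χ ^ 2 := by
        rw [Finset.sum_image fun a _ b _ h => D.inj h]
        simp [D.deg_f, Nat.card_eq_fintype_card]
    _ = ∑ χ ∈ S ∪ Finset.univ.image D.f, deg χ ^ 2 := by
        rw [Finset.sum_union]
        rw [Finset.disjoint_left]
        intro χ hχ hχ'
        obtain ⟨o, -, rfl⟩ := Finset.mem_image.mp hχ'
        exact hS o hχ
    _ ≤ _ := Finset.sum_le_univ_sum_of_nonneg (fun _ => Nat.zero_le _)

end Setup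

end Cfsg.Agent.SmallGroups.SelfCent
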