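import Cfsg.Agent.Lib.SmallGroups.SelfCent.Normal
import Cfsg.Agent.Lib.BlocksCore.CyclicRank

/-!
# The principal block for a Sylow subgroup of prime order: normalised data
-/

set_option autoImplicit false

namespace Cfsg.Agent.SmallGroups.SelfCent

open BlocksDefect BlocksCore

variable {G : Type*} [Group G] [Fintype G] {p : ℕ} [hp : Fact p.Prime] {M : Ideal Cfsg.AlgInt}

namespace Setup

variable (s : Setup G p)

omit hp in
theorem deg_eq_charDegree [Fact p.Prime] (χ : Cfsg.IrrCharacter G) :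
    deg χ = Cfsg.charDegree (χ : G → ℂ) := by
  have h1 := (deg_spec χ).2.2
  rw [irr_one_eq] at h1
  exact_mod_cast h1.symm

/-- With at least three exceptional characters: `d = 0`, exactly `e - 1` further characters,
each with coefficient `±1`, and all of them in the principal block. -/
theorem exists_principal_data [Fintype s.Orb] [DecidableEq (Cfsg.IrrCharacter G)]
    (hM : Cfsg.IsPModular p M) (hidx : ¬ p ∣ (Subgroup.zpowers s.z).index)
    (ht : 3 ≤ Nat.card s.Orb) :
    ∃ (D : s.Data) (R : Finset (Cfsg.IrrCharacter G)), D.d = 0 ∧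
      R.card + 1 = Nat.card s.auto ∧ triv ∉ R ∧ (∀ o, D.f o ∉ R) ∧
      (∀ χ ∈ R, (D.c χ = 1 ∨ D.c χ = -1) ∧ χ ∈ Cfsg.principalBlock M G ∧
        (p : ℤ) ∣ (deg χ : ℤ) + D.c χ ∧ deg χ ∣ Nat.card G / p) ∧
      (∀ o, D.f o ∈ Cfsg.principalBlock M G) ∧
      (p : ℤ) ∣ (D.b : ℤ) - (Nat.card s.auto : ℤ) * D.eps ∧
      (∀ χ, χ ≠ triv → χ ∉ R → D.c χ = 0) := by
  classical
  have := BlocksCore.isPrime hM
  obtain ⟨D⟩ := s.nonempty_data (by omega)
  set B : Finset (Cfsg.IrrCharacter G) :=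
    Finset.univ.filter (· ∈ Cfsg.principalBlock M G) with hB
  set F := Finset.univ.image D.f with hF
  letI : Field (BlocksDefect.Res M) := Ideal.Quotient.field _
  haveI : CharP (BlocksDefect.Res M) p := BlocksDefect.charP_res hM
  haveI : CharP (AlgebraicClosure (BlocksDefect.Res M)) p :=
    charP_of_injective_ringHom
      (algebraMap (BlocksDefect.Res M) (AlgebraicClosure (BlocksDefect.Res M))).injective p
  have hge := BlocksCore.CyclicRank.card_ge hM s hidx (AlgebraicClosure (BlocksDefect.Res M))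
    (algebraMap _ _)
  have hBcard : Nat.card (Cfsg.principalBlock M G) = B.card := by
    rw [Nat.card_eq_fintype_card, Fintype.card_subtype]
  rw [hBcard] at hge
  have hvec : ∀ χ, χ ∉ B → ∀ o, s.vecO χ o = 0 := fun χ hχ o =>
    BlocksCore.CyclicBlock.vec_of_notMem s hM (by simpa [hB] using hχ) _
  have hnt : Nontrivial s.Orb := by
    rw [← Finite.one_lt_card_iff_nontrivial]; omega
  have hfB : ∀ o, D.f o ∈ B := by
    intro o
    by_contra h
    obtain ⟨o', ho'⟩ := exists_ne o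
    have h1 := hvec _ h o
    have h2 := hvec _ h o'
    rw [D.vec_eq, if_pos rfl, D.c_f] at h1
    rw [D.vec_eq, if_neg (D.inj.ne ho'.symm), D.c_f] at h2
    rcases D.eps_eq with h3 | h3 <;> omega
  have hFB : F ⊆ B := fun χ hχ => by
    obtain ⟨o, -, rfl⟩ := Finset.mem_image.mp hχ
    exact hfB o
  have hc : ∀ χ ∈ B \ F, 1 ≤ D.c χ * D.c χ := by
    intro χ hχ
    obtain ⟨hχB, hχF⟩ := Finset.mem_sdiff.mp hχ
    obtain ⟨o, ho⟩ := BlocksCore.CyclicBlock.exists_vecO_ne_zero s hM hidx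
      (χ := χ) (by simpa [hB] using hχB)
    rw [D.vec_eq, if_neg (fun (h : χ = D.f o) =>
      hχF (h ▸ Finset.mem_image_of_mem D.f (Finset.mem_univ o))),
      add_zero] at ho
    exact mul_self_pos.mpr ho
  have hFcard : F.card = Nat.card s.Orb := by
    rw [hF, Finset.card_image_of_injective _ D.inj, Finset.card_univ, Nat.card_eq_fintype_card]
  have hBF : Nat.card s.auto ≤ (B \ F).card := by
    rw [Finset.card_sdiff_of_subset hFB, hFcard]
    omega
  have hsumF : ∑ χ ∈ F, D.c χ * D.c χ = (Nat.card s.Orb : ℤ) * (D.d * D.d) := by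
    rw [hF, Finset.sum_image fun a _ b _ h => D.inj h]
    simp [D.c_f, Nat.card_eq_fintype_card]
  have hsplit : ∑ χ ∈ B \ F, D.c χ * D.c χ + (Nat.card s.Orb : ℤ) * (D.d * D.d) ≤
      ∑ χ, D.c χ * D.c χ := by
    rw [← hsumF, ← Finset.sum_union Finset.sdiff_disjoint]
    exact Finset.sum_le_univ_sum_of_nonneg fun χ => mul_self_nonneg _
  have hcard1 : ((B \ F).card : ℤ) ≤ ∑ χ ∈ B \ F, D.c χ * D.c χ := by
    simpa using Finset.card_nsmul_le_sum (B \ F) (fun χ => D.c χ * D.c χ) 1 hc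
  have hn := D.norm_eq
  have hBF' : (Nat.card s.auto : ℤ) ≤ ((B \ F).card : ℤ) := by exact_mod_cast hBF
  have hd : D.d = 0 := by
    have h3 : (3 : ℤ) ≤ (Nat.card s.Orb : ℤ) := by exact_mod_cast ht
    have h4 := mul_le_mul_of_nonneg_right h3 (mul_self_nonneg D.d)
    have h5 : 3 * (D.d * D.d) + 2 * D.eps * D.d ≤ 0 := by linarith
    by_contra hd
    have : 1 ≤ D.d * D.d := mul_self_pos.mpr hd
    rcases D.eps_eq with h | h <;> rw [h] at h5 <;> nlinarith
  rw [hd, mul_zero, add_zero] at hn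
  have hBFeq : (B \ F).card = Nat.card s.auto := by
    have : ((B \ F).card : ℤ) ≤ (Nat.card s.auto : ℤ) := by
      rw [← hn]
      exact le_trans hcard1 (Finset.sum_le_univ_sum_of_nonneg fun χ => mul_self_nonneg _)
    exact le_antisymm (by exact_mod_cast this) hBF
  have hone : ∀ χ ∈ B \ F, D.c χ * D.c χ = 1 := by
    intro χ hχ
    have h7 : ∑ y ∈ B \ F, (D.c y * D.c y - 1) = 0 := by
      apply le_antisymm _ (Finset.sum_nonneg fun y hy => by linarith [hc y hy])
      rw [Finset.sum_sub_distrib, Finset.sum_const, nsmul_one, hBFeq]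
      have : ∑ y ∈ B \ F, D.c y * D.c y ≤ ∑ y, D.c y * D.c y :=
        Finset.sum_le_univ_sum_of_nonneg fun χ => mul_self_nonneg _
      linarith
    have h8 := (Finset.sum_eq_zero_iff_of_nonneg fun y hy => by linarith [hc y hy]).mp h7 χ hχ
    linarith
  have hother : ∀ χ, χ ∉ B \ F → D.c χ = 0 := by
    intro χ hχ
    have h1 : ∑ y ∈ insert χ (B \ F), D.c y * D.c y ≤ ∑ y, D.c y * D.c y :=
      Finset.sum_le_univ_sum_of_nonneg fun χ => mul_self_nonneg _
    rw [Finset.sum_insert hχ, Finset.sum_congr rfl hone, Finset.sum_const, nsmul_one, hBFeq,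
      hn] at h1
    exact mul_self_eq_zero.mp (le_antisymm (by linarith) (mul_self_nonneg _))
  have htriv : (triv : Cfsg.IrrCharacter G) ∈ B \ F := by
    by_contra h
    have := hother _ h
    rw [D.c_triv] at this
    omega
  refine ⟨D, (B \ F).erase triv, hd, ?_, Finset.notMem_erase _ _, fun o h => ?_, fun χ hχ => ?_,
    fun o => by simpa [hB] using hfB o, ?_, fun χ h1 h2 => ?_⟩
  · rw [Finset.card_erase_add_one htriv, hBFeq]
  · exact (Finset.mem_sdiff.mp (Finset.mem_of_mem_erase h)).2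
      (Finset.mem_image_of_mem D.f (Finset.mem_univ o))
  · have hχ' := Finset.mem_of_mem_erase hχ
    have hχB : χ ∈ Cfsg.principalBlock M G := by
      simpa [hB] using (Finset.mem_sdiff.mp hχ').1
    have hex : ∀ o, χ ≠ D.f o := fun o h => (Finset.mem_sdiff.mp hχ').2
      (h ▸ Finset.mem_image_of_mem D.f (Finset.mem_univ o))
    have hpm := mul_self_eq_one_iff.mp (hone χ hχ')
    refine ⟨hpm, hχB, ?_, ?_⟩
    · have h := BlocksCore.CyclicBlock.charDegree_modEq s hM hχB
      rw [D.sum_vec, if_neg (fun ⟨o, ho⟩ => hex o ho), add_zero, ← deg_eq_charDegree (p := p),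
        ← mul_assoc, mul_comm (Nat.card s.auto : ℤ), ← Nat.cast_mul, s.card_orb_mul,
        Nat.cast_sub hp.out.one_le] at h
      have h' := h.symm.dvd
      push_cast at h'
      have : (p : ℤ) ∣ (deg χ : ℤ) - ((p : ℤ) - 1) * D.c χ + (p : ℤ) * D.c χ :=
        dvd_add h' (dvd_mul_right _ _)
      convert this using 1
      ring
    · have h := D.deg_dvd χ hex
      apply Int.natCast_dvd_natCast.mp
      rcases hpm with r | r <;> rw [r] at h <;> simpa using h
  · obtain ⟨o⟩ : Nonempty s.Orb := inferInstance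
    have h := BlocksCore.CyclicBlock.charDegree_modEq s hM
      (χ := D.f o) (by simpa [hB] using hfB o)
    rw [D.sum_vec, if_pos ⟨o, rfl⟩, D.c_f, hd, mul_zero, zero_add, ← deg_eq_charDegree (p := p),
      D.deg_f] at h
    exact h.symm.dvd
  · exact hother χ fun h => h2 (Finset.mem_erase.mpr ⟨h1, h⟩)

/-- Principal block characters are constant on `z ^ k K`. -/
theorem apply_zp_mul (hM : Cfsg.IsPModular p M) {χ : Cfsg.IrrCharacter G}
    (hχ : χ ∈ Cfsg.principalBlock M G) {k : ZMod p} (hk : k ≠ 0) {w : G} (hw : w ∈ s.K) :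
    (χ : G → ℂ) (s.zp k * w) = (χ : G → ℂ) (s.zp k) := by
  classical
  have := BlocksCore.isPrime hM
  have := Fintype.ofFinite (Subgroup.centralizer ({s.zp k} : Set G))
  have hwC : w ∈ Subgroup.centralizer ({s.zp k} : Set G) :=
    BlocksCore.CyclicBlock.K_le s hk hw
  have hnd : ¬ p ∣ orderOf (⟨w, hwC⟩ : Subgroup.centralizer ({s.zp k} : Set G)) := by
    rw [Subgroup.orderOf_mk]
    exact fun h => s.not_dvd (h.trans (orderOf_dvd_of_pow_eq_one (s.pow_card_K hw)))
  have h := principal_apply_section hM (k := 1)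
    (by rw [pow_one]; exact BlocksCore.CyclicBlock.orderOf_zp s hk) hχ
    (⟨w, hwC⟩ : Subgroup.centralizer ({s.zp k} : Set G)) hnd
  rw [BlocksCore.CyclicBlock.blockCoeff_principal s hM hk, sum_subInd_mul] at h
  rw [← BlocksCore.CyclicBlock.phi_of_mem s hM hk hχ, ← h, Setup.phi, s.card_kset,
    Nat.card_congr (Subgroup.subgroupOfEquivOfLe (BlocksCore.CyclicBlock.K_le s hk)).toEquiv,
    Finset.sum_subtype s.kset (fun w => s.mem_kset) (fun w => (χ : G → ℂ) (s.zp k * w))]
  congr 1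
  refine Fintype.sum_equiv
    ((Subgroup.subgroupOfEquivOfLe (BlocksCore.CyclicBlock.K_le s hk)).toEquiv.trans
      (Equiv.mulRight (⟨w, hw⟩ : s.K))) _ _ fun v => ?_
  show (χ : G → ℂ) ((v.1 : G) * (s.zp k * w)) = (χ : G → ℂ) (s.zp k * ((v.1 : G) * w))
  rw [← mul_assoc, ← mul_assoc, (s.comm_zp k (Subgroup.mem_subgroupOf.mp v.2)).eq]

end Setup

end Cfsg.Agent.SmallGroups.SelfCent
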