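import Cfsg.Agent.Lib.CharCore.Complete
import Cfsg.Agent.Lib.CharCore.Linear
import Cfsg.Agent.Lib.CharClifford.Central
import Mathlib.Analysis.SpecialFunctions.Complex.CircleAddChar
import Mathlib.NumberTheory.LegendreSymbol.AddCharacter
import Mathlib.GroupTheory.QuotientGroup.Basic

/-!
# A prime-order element `z` with `C(z) = ⟨z⟩ × K`, `p ∤ |K|`: multiplicities of characters

For an irreducible character `χ`, `phi χ k` is the average of `χ (z ^ k * w)` over `w ∈ K`,
`vec χ r` the difference of the multiplicities of the `r`-th and trivial linear character of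
`⟨z⟩` in the `K`-fixed part.  Column orthogonality gives the Gram matrix of these integer
vectors.
-/

set_option autoImplicit false

open scoped ComplexConjugate

namespace Cfsg.Agent.SmallGroups.SelfCent

open Subgroup

variable {G : Type*} [Group G]

/-- `z` has prime order `p` and centraliser `⟨z⟩ × K` with `p ∤ |K|`. -/
structure Setup (G : Type*) [Group G] (p : ℕ) where
  z : G
  K : Subgroup G
  orderOf_z : orderOf z = p
  comm : ∀ w ∈ K, w * z = z * w
  not_dvd : ¬ p ∣ Nat.card K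
  card_cent : Nat.card (centralizer ({z} : Set G)) = p * Nat.card K

namespace Setup

variable {p : ℕ} [hp : Fact p.Prime] (s : Setup G p)

/-- `z ^ k` for `k : ZMod p`. -/
def zp (k : ZMod p) : G := s.z ^ k.val

theorem zp_natCast (n : ℕ) : s.zp (n : ZMod p) = s.z ^ n := by
  rw [zp, ZMod.val_natCast]
  conv_rhs => rw [← pow_mod_orderOf, s.orderOf_z]

theorem zp_zero : s.zp 0 = 1 := by simp [zp]

theorem zp_one : s.zp 1 = s.z := by
  have := s.zp_natCast 1
  simpa using this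

theorem zp_add (a b : ZMod p) : s.zp (a + b) = s.zp a * s.zp b := by
  conv_lhs => rw [← ZMod.natCast_zmod_val a, ← ZMod.natCast_zmod_val b, ← Nat.cast_add]
  rw [zp_natCast, pow_add]
  rfl

theorem zp_mul (a b : ZMod p) : s.zp (a * b) = s.zp a ^ b.val := by
  conv_lhs => rw [← ZMod.natCast_zmod_val a, ← ZMod.natCast_zmod_val b, ← Nat.cast_mul]
  rw [zp_natCast, pow_mul]
  rfl

theorem zp_pow (a : ZMod p) (n : ℕ) : s.zp a ^ n = s.zp (a * n) := by
  conv_rhs => rw [← ZMod.natCast_zmod_val a, ← Nat.cast_mul]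
  rw [zp_natCast, pow_mul]
  rfl

theorem zp_eq_one_iff (a : ZMod p) : s.zp a = 1 ↔ a = 0 := by
  constructor
  · intro h
    have h1 : p ∣ a.val := by
      have := orderOf_dvd_of_pow_eq_one (show s.z ^ a.val = 1 from h)
      rwa [s.orderOf_z] at this
    rw [← ZMod.natCast_zmod_val a]
    exact (ZMod.natCast_eq_zero_iff _ _).mpr h1
  · rintro rfl
    exact s.zp_zero

theorem zp_injective : Function.Injective s.zp := by
  intro a b h
  have h1 : s.zp (a - b) * s.zp b = s.zp b := by rw [← zp_add, sub_add_cancel, h]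
  exact sub_eq_zero.mp ((s.zp_eq_one_iff _).mp (mul_eq_right.mp h1))

theorem comm_zp (a : ZMod p) {w : G} (hw : w ∈ s.K) : Commute (s.zp a) w :=
  (Commute.pow_right (show Commute w s.z from s.comm w hw) a.val).symm

variable [Finite G]

theorem pow_card_K {w : G} (hw : w ∈ s.K) : w ^ Nat.card s.K = 1 := by
  rw [← orderOf_dvd_iff_pow_eq_one]
  exact Subgroup.orderOf_dvd_natCard s.K hw

/-- `ι : ZMod p × K → G`. -/
def embed : Multiplicative (ZMod p) × s.K →* G where
  toFun x := s.zp x.1.toAdd * (x.2 : G)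
  map_one' := by simp [s.zp_zero]
  map_mul' x y := by
    simp only [Prod.fst_mul, toAdd_mul, zp_add, Prod.snd_mul, Subgroup.coe_mul]
    have h := (s.comm_zp y.1.toAdd x.2.2).eq
    calc s.zp x.1.toAdd * s.zp y.1.toAdd * ((x.2 : G) * y.2)
        = s.zp x.1.toAdd * (s.zp y.1.toAdd * (x.2 : G)) * y.2 := by group
      _ = s.zp x.1.toAdd * ((x.2 : G) * s.zp y.1.toAdd) * y.2 := by rw [h]
      _ = _ := by group

theorem coprime_card : Nat.Coprime p (Nat.card s.K) :=
  hp.out.coprime_iff_not_dvd.mpr s.not_dvd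

theorem zp_mem_K_iff (a : ZMod p) : s.zp a ∈ s.K ↔ a = 0 := by
  refine ⟨fun h => ?_, fun h => by rw [h, s.zp_zero]; exact one_mem _⟩
  have h1 := s.pow_card_K h
  rw [zp_pow, zp_eq_one_iff] at h1
  refine (mul_eq_zero.mp h1).resolve_right fun h2 => s.not_dvd ?_
  exact (ZMod.natCast_eq_zero_iff _ _).mp h2

theorem embed_injective : Function.Injective s.embed := by
  rw [← MonoidHom.ker_eq_bot_iff, eq_bot_iff]
  rintro ⟨a, w⟩ h
  have h' : s.zp a.toAdd * (w : G) = 1 := h
  have h1 : s.zp a.toAdd ∈ s.K := by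
    rw [eq_inv_of_mul_eq_one_left h']; exact inv_mem w.2
  rw [zp_mem_K_iff] at h1
  rw [h1, zp_zero, one_mul] at h'
  refine mem_bot.mpr (Prod.ext ?_ (Subtype.ext h'))
  exact Multiplicative.toAdd.injective h1

theorem range_embed : s.embed.range = centralizer ({s.z} : Set G) := by
  refine eq_of_le_of_card_ge ?_ ?_
  · rintro _ ⟨⟨a, w⟩, rfl⟩
    rw [mem_centralizer_singleton_iff]
    have h1 : Commute (s.zp a.toAdd * (w : G)) s.z :=
      (Commute.pow_left (Commute.refl s.z) _).mul_left (s.comm w w.2)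
    exact h1.eq
  · rw [s.card_cent, ← Nat.card_congr (MonoidHom.ofInjective s.embed_injective).toEquiv,
      Nat.card_prod, Nat.card_congr Multiplicative.toAdd, Nat.card_zmod]

theorem exists_of_mem_cent {x : G} (hx : x ∈ centralizer ({s.z} : Set G)) :
    ∃ a : ZMod p, ∃ w ∈ s.K, x = s.zp a * w := by
  rw [← range_embed] at hx
  obtain ⟨⟨a, w⟩, rfl⟩ := hx
  exact ⟨a.toAdd, w, w.2, rfl⟩

theorem mem_K_of_pow_eq_one {x : G} (hx : x ∈ centralizer ({s.z} : Set G))
    (h : x ^ Nat.card s.K = 1) : x ∈ s.K := by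
  obtain ⟨a, w, hw, rfl⟩ := s.exists_of_mem_cent hx
  rw [(s.comm_zp a hw).mul_pow, s.pow_card_K hw, mul_one, zp_pow, zp_eq_one_iff] at h
  have ha : a = 0 := (mul_eq_zero.mp h).resolve_right fun h2 =>
    s.not_dvd ((ZMod.natCast_eq_zero_iff _ _).mp h2)
  rwa [ha, zp_zero, one_mul]

/-- A power killing `K` and fixing `⟨z⟩`. -/
theorem exists_exponent : ∃ n : ℕ, (n : ZMod p) = 1 ∧ Nat.card s.K ∣ n := by
  refine ⟨Nat.card s.K * ((Nat.card s.K : ZMod p)⁻¹).val, ?_, Dvd.intro _ rfl⟩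
  rw [Nat.cast_mul, ZMod.natCast_zmod_val]
  exact mul_inv_cancel₀ fun h => s.not_dvd ((ZMod.natCast_eq_zero_iff _ _).mp h)

theorem conj_zp_of_conj {j k : ZMod p} {w w' g : G} (hw : w ∈ s.K) (hw' : w' ∈ s.K)
    (h : g * (s.zp j * w) * g⁻¹ = s.zp k * w') : g * s.zp j * g⁻¹ = s.zp k := by
  obtain ⟨n, hn, c, hc⟩ := s.exists_exponent
  have hkill : ∀ u ∈ s.K, u ^ n = 1 := fun u hu => by rw [hc, pow_mul, s.pow_card_K hu, one_pow]
  have h1 : (g * (s.zp j * w) * g⁻¹) ^ n = (s.zp k * w') ^ n := by rw [h]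
  rwa [conj_pow, (s.comm_zp j hw).mul_pow, (s.comm_zp k hw').mul_pow, hkill w hw, hkill w' hw',
    zp_pow, zp_pow, hn, mul_one, mul_one, mul_one, mul_one] at h1

omit [Finite G] in
theorem conj_zp_mul {j k : ZMod p} {g : G} (h : g * s.zp j * g⁻¹ = s.zp k) (b : ZMod p) :
    g * s.zp (j * b) * g⁻¹ = s.zp (k * b) := by
  rw [zp_mul, zp_mul, ← h, conj_pow]

theorem conj_mem_K {j k : ZMod p} {g w : G} (hj : j ≠ 0) (h : g * s.zp j * g⁻¹ = s.zp k)
    (hw : w ∈ s.K) : g * w * g⁻¹ ∈ s.K := by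
  have hk : k ≠ 0 := by
    rintro rfl
    rw [zp_zero, conj_eq_one_iff, zp_eq_one_iff] at h
    exact hj h
  refine s.mem_K_of_pow_eq_one ?_ (by rw [conj_pow, s.pow_card_K hw, mul_one, mul_inv_cancel])
  rw [mem_centralizer_singleton_iff]
  have hz : g * s.zp (j * k⁻¹) * g⁻¹ = s.z := by
    rw [s.conj_zp_mul h k⁻¹, mul_inv_cancel₀ hk, zp_one]
  conv_lhs => rw [← hz]
  conv_rhs => rw [← hz]
  calc g * w * g⁻¹ * (g * s.zp (j * k⁻¹) * g⁻¹) = g * (w * s.zp (j * k⁻¹)) * g⁻¹ := by group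
    _ = g * (s.zp (j * k⁻¹) * w) * g⁻¹ := by rw [(s.comm_zp _ hw).eq]
    _ = _ := by group

/-- The units `a` with `z` conjugate to `z ^ a`. -/
def auto : Subgroup (ZMod p)ˣ where
  carrier := {a | IsConj s.z (s.zp a)}
  one_mem' := by
    show IsConj s.z (s.zp ((1 : (ZMod p)ˣ) : ZMod p))
    rw [Units.val_one, s.zp_one]
  mul_mem' {a b} ha hb := by
    simp only [Set.mem_setOf_eq] at ha hb ⊢
    obtain ⟨g, hg⟩ := isConj_iff.mp ha
    refine hb.trans (isConj_iff.mpr ⟨g, ?_⟩)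
    have hg' : g * s.zp 1 * g⁻¹ = s.zp (a : ZMod p) := by rw [s.zp_one]; exact hg
    have := s.conj_zp_mul hg' (b : ZMod p)
    rwa [one_mul, ← Units.val_mul] at this
  inv_mem' {a} ha := by
    simp only [Set.mem_setOf_eq] at ha ⊢
    obtain ⟨g, hg⟩ := isConj_iff.mp ha
    refine IsConj.symm (isConj_iff.mpr ⟨g, ?_⟩)
    have hg' : g * s.zp 1 * g⁻¹ = s.zp (a : ZMod p) := by rw [s.zp_one]; exact hg
    have := s.conj_zp_mul hg' (((a⁻¹ : (ZMod p)ˣ)) : ZMod p)
    rwa [one_mul, ← Units.val_mul, mul_inv_cancel, Units.val_one, s.zp_one] at this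

theorem mem_auto_iff (a : (ZMod p)ˣ) : a ∈ s.auto ↔ IsConj s.z (s.zp a) := Iff.rfl

theorem isConj_zp_iff {j k : ZMod p} (hj : j ≠ 0) :
    IsConj (s.zp j) (s.zp k) ↔ ∃ a ∈ s.auto, k = j * (a : ZMod p) := by
  constructor
  · intro h
    obtain ⟨g, hg⟩ := isConj_iff.mp h
    have hk : k ≠ 0 := by
      rintro rfl
      rw [zp_zero, conj_eq_one_iff, zp_eq_one_iff] at hg
      exact hj hg
    refine ⟨Units.mk0 (k * j⁻¹) (mul_ne_zero hk (inv_ne_zero hj)),
      (s.mem_auto_iff _).mpr (isConj_iff.mpr ⟨g, ?_⟩), ?_⟩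
    · have := s.conj_zp_mul hg j⁻¹
      rw [mul_inv_cancel₀ hj, zp_one] at this
      exact this
    · simp only [Units.val_mk0]
      field_simp
  · rintro ⟨a, ha, rfl⟩
    obtain ⟨g, hg⟩ := isConj_iff.mp ((s.mem_auto_iff a).mp ha)
    refine isConj_iff.mpr ⟨g, ?_⟩
    have hg' : g * s.zp 1 * g⁻¹ = s.zp (a : ZMod p) := by rw [s.zp_one]; exact hg
    have := s.conj_zp_mul hg' j
    rwa [one_mul, mul_comm] at this

theorem centralizer_zp {j : ZMod p} (hj : j ≠ 0) :
    centralizer ({s.zp j} : Set G) = centralizer ({s.z} : Set G) := by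
  ext x
  rw [mem_centralizer_singleton_iff, mem_centralizer_singleton_iff]
  constructor
  · intro h
    have h1 : Commute x (s.zp j ^ (j⁻¹).val) := (show Commute x (s.zp j) from h).pow_right _
    rw [← zp_mul, mul_inv_cancel₀ hj, zp_one] at h1
    exact h1.eq
  · intro h
    exact ((show Commute x s.z from h).pow_right j.val).eq

end Setup

end Cfsg.Agent.SmallGroups.SelfCent
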