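import Cfsg.Agent.Lib.SmallGroups.SelfCent.Two

/-!
# Degrees for a self-centralising subgroup of prime order with `|N : C| = 3`
-/

set_option autoImplicit false

namespace Cfsg.Agent.SmallGroups.SelfCent

open Subgroup

namespace Setup

variable {G : Type*} [Group G] [Fintype G] {p : ℕ} [hp : Fact p.Prime] (s : Setup G p)

theorem exists_three_degrees_aux [Fintype s.Orb] [DecidableEq (Cfsg.IrrCharacter G)]
    [IsSimpleGroup G] (hG : ¬ IsMulCommutative G) (hp19 : 19 ≤ p) (hK : s.K = ⊥)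
    (he : Nat.card s.auto = 3) :
    ∃ (a b x : ℕ) (u v ε : ℤ), (u = 1 ∨ u = -1) ∧ (v = 1 ∨ v = -1) ∧ (ε = 1 ∨ ε = -1) ∧
      2 ≤ a ∧ 2 ≤ b ∧ a ∣ Nat.card G / p ∧ b ∣ Nat.card G / p ∧ x ∣ Nat.card G / p ∧
      (p : ℤ) ∣ (a : ℤ) + u ∧ (p : ℤ) ∣ (b : ℤ) + v ∧ (p : ℤ) ∣ (x : ℤ) - 3 * ε ∧
      -1 + u * a + v * b + ε * x = 0 ∧
      1 + a ^ 2 + b ^ 2 + (p - 1) / 3 * x ^ 2 ≤ Nat.card G := by
  classical
  have hO := s.card_orb_mul
  rw [he] at hO
  obtain ⟨D⟩ := s.nonempty_data (by omega)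
  set S := Finset.univ.image D.f with hS
  have htS : Setup.triv ∉ S := fun h => by
    obtain ⟨o, -, ho⟩ := Finset.mem_image.mp h
    exact D.triv_ne o ho
  have hn := D.norm_eq
  rw [he] at hn
  push_cast at hn
  rw [← Finset.sum_add_sum_compl (insert Setup.triv S), Finset.sum_insert htS,
    Finset.sum_image (fun a _ b _ h => D.inj h), D.c_triv] at hn
  simp only [D.c_f, Finset.sum_const, Finset.card_univ, ← Nat.card_eq_fintype_card,
    nsmul_eq_mul] at hn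
  have ht6 : (6 : ℤ) ≤ (Nat.card s.Orb : ℤ) := by exact_mod_cast (show 6 ≤ Nat.card s.Orb by omega)
  have hrest0 : 0 ≤ ∑ χ ∈ (insert Setup.triv S)ᶜ, D.c χ * D.c χ :=
    Finset.sum_nonneg fun χ _ => mul_self_nonneg _
  have hd : D.d = 0 := by
    have h1 : 6 * (D.d * D.d) + 2 * D.eps * D.d ≤ 2 := by
      have := mul_le_mul_of_nonneg_right ht6 (mul_self_nonneg D.d)
      linarith
    have hlo : -1 < D.d := by rcases D.eps_eq with h | h <;> rw [h] at h1 <;> nlinarith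
    have hhi : D.d < 1 := by rcases D.eps_eq with h | h <;> rw [h] at h1 <;> nlinarith
    omega
  rw [hd] at hn
  have hR : ∑ χ ∈ (insert Setup.triv S)ᶜ, D.c χ * D.c χ = 2 := by linarith
  -- each value is `0`, `1` or `-1`
  set R := (insert Setup.triv S)ᶜ with hRdef
  have hval : ∀ χ ∈ R, D.c χ = 0 ∨ D.c χ = 1 ∨ D.c χ = -1 := by
    intro χ hχ
    have h := Finset.single_le_sum (f := fun χ => D.c χ * D.c χ)
      (fun χ _ => mul_self_nonneg _) hχ
    rw [hR] at h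
    have : -2 < D.c χ := by nlinarith
    have : D.c χ < 2 := by nlinarith
    omega
  have hsupp : (R.filter fun χ => D.c χ ≠ 0).card = 2 := by
    have h1 : ∑ χ ∈ R.filter (fun χ => D.c χ ≠ 0), D.c χ * D.c χ = 2 := by
      rw [Finset.sum_filter_of_ne (p := fun χ => D.c χ ≠ 0)
        fun χ _ h => fun h0 => h (by rw [h0, mul_zero])]
      exact hR
    rw [Finset.sum_congr rfl (g := fun _ => (1 : ℤ)) (fun χ hχ => by
      obtain ⟨hχ, h0⟩ := Finset.mem_filter.mp hχ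
      rcases hval χ hχ with h | h | h
      · exact absurd h h0
      · rw [h]; norm_num
      · rw [h]; norm_num), Finset.sum_const, nsmul_eq_mul, mul_one] at h1
    exact_mod_cast h1
  obtain ⟨χa, χb, hab, heq⟩ := Finset.card_eq_two.mp hsupp
  have hprop : ∀ χ, χ = χa ∨ χ = χb → χ ≠ Setup.triv ∧ (∀ o, χ ≠ D.f o) ∧
      (D.c χ = 1 ∨ D.c χ = -1) := by
    intro χ hχ
    have : χ ∈ R.filter fun χ => D.c χ ≠ 0 := by rw [heq]; simpa using hχ
    obtain ⟨hχR, h0⟩ := Finset.mem_filter.mp this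
    refine ⟨?_, fun o ho => ?_, (hval χ hχR).resolve_left h0⟩
    · rintro rfl
      simp [hRdef] at hχR
    · subst ho
      simp [hRdef, hS] at hχR
  obtain ⟨hat, hane, hca⟩ := hprop χa (Or.inl rfl)
  obtain ⟨hbt, hbne, hcb⟩ := hprop χb (Or.inr rfl)
  have hdeg1 : ∀ χ : Cfsg.IrrCharacter G, χ ≠ Setup.triv → 2 ≤ deg χ := by
    intro χ hχ
    have h1 := (deg_spec χ).1
    have h2 : deg χ ≠ 1 := fun h => hχ ((deg_eq_one_iff hG χ).mp h)
    omega
  have hmod : ∀ χ : Cfsg.IrrCharacter G, (∀ o, χ ≠ D.f o) → (p : ℤ) ∣ (deg χ : ℤ) + D.c χ := by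
    intro χ hχ
    obtain ⟨n, -, hn', hmod⟩ := D.fix_congr χ
    rw [hn' hK, if_neg (fun ⟨o, ho⟩ => hχ o ho), add_zero] at hmod
    have h := hmod.symm.dvd
    rwa [sub_neg_eq_add] at h
  have hdvd : ∀ χ : Cfsg.IrrCharacter G, (∀ o, χ ≠ D.f o) → (D.c χ = 1 ∨ D.c χ = -1) →
      deg χ ∣ Nat.card G / p := by
    intro χ hχ hc
    have h := D.deg_dvd χ hχ
    apply Int.natCast_dvd_natCast.mp
    rcases hc with r | r <;> rw [r] at h <;> simpa using h
  obtain ⟨o₀⟩ : Nonempty s.Orb := inferInstance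
  have hmodx : (p : ℤ) ∣ (D.b : ℤ) - 3 * D.eps := by
    obtain ⟨n, -, hn', hmod⟩ := D.fix_congr (D.f o₀)
    rw [hn' hK, if_pos ⟨o₀, rfl⟩, D.c_f, hd, D.deg_f, he, neg_zero, zero_add] at hmod
    exact_mod_cast hmod.symm.dvd
  have hpx : ¬ p ∣ D.b := by
    intro h
    have h1 : (p : ℤ) ∣ 3 * D.eps := by
      have := (Int.natCast_dvd_natCast.mpr h).sub hmodx
      rwa [sub_sub_cancel] at this
    have h2 : (p : ℤ) ∣ 3 := by
      rcases D.eps_eq with h | h <;> rw [h] at h1 <;> simpa using h1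
    have h3 : (p : ℤ) ≤ 3 := Int.le_of_dvd (by norm_num) h2
    omega
  refine ⟨deg χa, deg χb, D.b, D.c χa, D.c χb, D.eps, hca, hcb, D.eps_eq, hdeg1 χa hat,
    hdeg1 χb hbt, hdvd χa hane hca, hdvd χb hbne hcb, D.deg_dvd_exceptional o₀ hpx,
    hmod χa hane, hmod χb hbne, hmodx, ?_, ?_⟩
  · have h := D.degree_eq
    rw [← Finset.sum_add_sum_compl (insert Setup.triv S), Finset.sum_insert htS,
      Finset.sum_image (fun a _ b _ h => D.inj h), D.c_triv, deg_triv] at h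
    simp only [D.c_f, hd, mul_zero, Finset.sum_const_zero] at h
    rw [← hRdef, ← Finset.sum_filter_of_ne (p := fun χ => D.c χ ≠ 0)
      (fun χ _ h => fun h0 => h (by rw [h0, mul_zero])), heq, Finset.sum_pair hab] at h
    push_cast at h
    linear_combination h
  · have h := D.sum_sq_le {(triv : Cfsg.IrrCharacter G), χa, χb} (fun o => by
      simp [D.triv_ne o, (hane o).symm, (hbne o).symm])
    rw [Finset.sum_insert (by simp [hat.symm, hbt.symm]), Finset.sum_pair hab, deg_triv,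
      one_pow, show Nat.card s.Orb = (p - 1) / 3 by omega] at h
    linarith

end Setup

/-- The degrees for a self-centralising subgroup of prime order `p` with normalizer of order
`3 p` in a simple group. -/
theorem exists_three_degrees {G : Type*} [Group G] [Finite G] [IsSimpleGroup G]
    (hG : ¬ IsMulCommutative G) {p : ℕ} [Fact p.Prime] (hp19 : 19 ≤ p) (P : Subgroup G)
    (hP : Nat.card P = p) (hC : centralizer (P : Set G) = P)
    (hN : Nat.card (normalizer (P : Set G)) = 3 * p) :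
    ∃ (a b x : ℕ) (u v ε : ℤ), (u = 1 ∨ u = -1) ∧ (v = 1 ∨ v = -1) ∧ (ε = 1 ∨ ε = -1) ∧
      2 ≤ a ∧ 2 ≤ b ∧ a ∣ Nat.card G / p ∧ b ∣ Nat.card G / p ∧ x ∣ Nat.card G / p ∧
      (p : ℤ) ∣ (a : ℤ) + u ∧ (p : ℤ) ∣ (b : ℤ) + v ∧ (p : ℤ) ∣ (x : ℤ) - 3 * ε ∧
      -1 + u * a + v * b + ε * x = 0 ∧
      1 + a ^ 2 + b ^ 2 + (p - 1) / 3 * x ^ 2 ≤ Nat.card G := by
  classical
  have := Fintype.ofFinite G
  obtain ⟨s, hK, -, hcard⟩ := exists_setup_of_prime P hP hC
  rw [hN] at hcard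
  have he : Nat.card s.auto = 3 :=
    (Nat.eq_of_mul_eq_mul_right (Fact.out : p.Prime).pos hcard).symm
  have := Fintype.ofFinite s.Orb
  exact s.exists_three_degrees_aux hG hp19 hK he

end Cfsg.Agent.SmallGroups.SelfCent
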