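import Cfsg.Agent.Lib.SmallGroups.SelfCent.Sylow
import Cfsg.Agent.Lib.SmallGroups.SelfCent.ThreeDeg

/-!
# `|N(P) : P| = 3` for a Sylow subgroup of prime order
-/

set_option autoImplicit false

namespace Cfsg.Agent.SmallGroups

open Subgroup

variable {G : Type*} [Group G] [Finite G] {p : ℕ} [hp : Fact p.Prime]

/-- Number of Sylow subgroups `n` with `|G| = 3 p n`: the degree conditions. -/
theorem exists_three_degrees_of_sylow [IsSimpleGroup G] (hG : ¬ IsMulCommutative G)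
    (hp19 : 19 ≤ p) {n : ℕ} (hcard : Nat.card G = 3 * p * n) (hn : Nat.card (Sylow p G) = n)
    (hpn : ¬ p ∣ 3 * n) :
    ∃ (a b x : ℕ) (u v ε : ℤ), (u = 1 ∨ u = -1) ∧ (v = 1 ∨ v = -1) ∧ (ε = 1 ∨ ε = -1) ∧
      2 ≤ a ∧ 2 ≤ b ∧ a ∣ 3 * n ∧ b ∣ 3 * n ∧ x ∣ 3 * n ∧
      (p : ℤ) ∣ (a : ℤ) + u ∧ (p : ℤ) ∣ (b : ℤ) + v ∧ (p : ℤ) ∣ (x : ℤ) - 3 * ε ∧
      -1 + u * a + v * b + ε * x = 0 ∧
      1 + a ^ 2 + b ^ 2 + (p - 1) / 3 * x ^ 2 ≤ Nat.card G := by
  obtain ⟨P⟩ := (inferInstance : Nonempty (Sylow p G))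
  have hP : Nat.card ↥(P : Subgroup G) = p := by
    simpa using card_sylow_eq (p := p) (a := 1) (m := 3 * n) (by rw [hcard]; ring) hpn P
  have hN := normalizer_conj_eq_card P hn hcard
  have hg : Nat.gcd (3 * p) (p - 1) ∣ 3 := by
    have hcop : Nat.Coprime p (p - 1) :=
      hp.out.coprime_iff_not_dvd.mpr fun h => by
        have := Nat.le_of_dvd (by omega) h
        omega
    rw [Nat.Coprime.gcd_mul_right_cancel 3 hcop]
    exact Nat.gcd_dvd_left _ _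
  have h := SelfCent.exists_three_degrees hG hp19 (P : Subgroup G) hP
    (centralizer_eq_self hG P hP Nat.prime_three hN hg) hN
  have hdiv : Nat.card G / p = 3 * n := by
    rw [hcard, show 3 * p * n = p * (3 * n) by ring, Nat.mul_div_cancel_left _ hp.out.pos]
  rwa [hdiv] at h

end Cfsg.Agent.SmallGroups
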