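import Cfsg.Agent.Lib.SmallGroups.SelfCent.TwoDeg
import Cfsg.Agent.Lib.SmallGroups.SelfCent.Count

/-!
# The class of involutions for `|N : C| = 2`
-/

set_option autoImplicit false

open scoped ComplexConjugate

namespace Cfsg.Agent.SmallGroups.SelfCent

open Subgroup BlocksCore CharDeep

namespace Setup

variable {G : Type*} [Group G] [Fintype G] {p : ℕ} [hp : Fact p.Prime] (s : Setup G p)

/-- For `e = 2` and `K = 1` all involutions form one class, whose size is determined by the value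
of the further character. -/
theorem exists_two_class_aux [Fintype s.Orb] [DecidableEq (Cfsg.IrrCharacter G)]
    [IsSimpleGroup G] (hG : ¬ IsMulCommutative G) (hp5 : 5 ≤ p) (hK : s.K = ⊥)
    (he : Nat.card s.auto = 2) :
    ∃ (a b : ℕ) (δ ε : ℤ), (δ = 1 ∨ δ = -1) ∧ (ε = 1 ∨ ε = -1) ∧ 2 ≤ a ∧
      a ∣ Nat.card G / p ∧ b ∣ Nat.card G / p ∧ (p : ℤ) ∣ (a : ℤ) - δ ∧
      (p : ℤ) ∣ (b : ℤ) - 2 * ε ∧ 1 + δ * a = ε * b ∧
      1 + a ^ 2 + (p - 1) / 2 * b ^ 2 ≤ Nat.card G ∧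
      ∃ (x : G) (S : ℤ), x ^ 2 = 1 ∧ x ≠ 1 ∧ (∀ y : G, y ^ 2 = 1 → y ≠ 1 → IsConj x y) ∧
        -(a : ℤ) ≤ S ∧ S < (a : ℤ) ∧ (4 : ℤ) ∣ (a : ℤ) - S ∧
        (4 : ℤ) ∣ (b : ℤ) - ε * (1 + δ * S) ∧
        1 + S ^ 2 + ((p - 1) / 2 : ℕ) * (1 + δ * S) ^ 2 ≤
          (Nat.card (Subgroup.centralizer ({x} : Set G)) : ℤ) ∧
        ((Subgroup.centralizer ({x} : Set G)).index : ℤ) ^ 2 * ((a : ℤ) - S) ^ 2 =
          (p : ℤ) * (Nat.card G : ℤ) * ((a : ℤ) * (b : ℤ)) := by
  classical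
  obtain ⟨D, χa, δ, hδ, hat, hane, hca, hd, hrest⟩ := s.exists_two_data hp5 he
  have hdiv : p ∣ Nat.card G := s.orderOf_z ▸ orderOf_dvd_natCard s.z
  have hpz : Prime (p : ℤ) := Nat.prime_iff_prime_int.mp hp.out
  have hane' : ¬ ∃ o, χa = D.f o := fun ⟨o, ho⟩ => hane o ho
  -- degrees
  have hmoda : (p : ℤ) ∣ (deg χa : ℤ) - δ := by
    obtain ⟨n, -, hn, hmod⟩ := D.fix_congr χa
    rw [hn hK, if_neg hane', hca, neg_neg, add_zero] at hmod
    exact hmod.symm.dvd
  obtain ⟨o₀⟩ : Nonempty s.Orb := inferInstance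
  have hmodb : (p : ℤ) ∣ (D.b : ℤ) - 2 * D.eps := by
    obtain ⟨n, -, hn, hmod⟩ := D.fix_congr (D.f o₀)
    rw [hn hK, if_pos ⟨o₀, rfl⟩, D.c_f, hd, D.deg_f, he, neg_zero, zero_add] at hmod
    exact_mod_cast hmod.symm.dvd
  have hpb : ¬ p ∣ D.b := by
    intro h
    have h1 : (p : ℤ) ∣ 2 * D.eps := by
      have := (Int.natCast_dvd_natCast.mpr h).sub hmodb
      rwa [sub_sub_cancel] at this
    have h2 : (p : ℤ) ∣ 2 := by
      rcases D.eps_eq with h | h <;> rw [h] at h1 <;> simpa using h1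
    have h3 : (p : ℤ) ≤ 2 := Int.le_of_dvd (by norm_num) h2
    omega
  have hdvda : deg χa ∣ Nat.card G / p := by
    have h := D.deg_dvd χa hane
    rw [hca] at h
    apply Int.natCast_dvd_natCast.mp
    rcases hδ with r | r <;> rw [r] at h <;> simpa using h
  have hdeg : 1 + δ * (deg χa : ℤ) = D.eps * D.b := by
    have h := D.degree_eq
    rw [← Finset.sum_subset (Finset.subset_univ {(triv : Cfsg.IrrCharacter G), χa})
      (fun χ _ hχ => by
        simp only [Finset.mem_insert, Finset.mem_singleton, not_or] at hχ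
        rw [hrest χ hχ.1 hχ.2, mul_zero]),
      Finset.sum_pair hat.symm, D.c_triv, hca, deg_triv] at h
    push_cast at h
    linear_combination -h
  have ha2 : 2 ≤ deg χa := by
    have h1 := (deg_spec χa).1
    have h2 : deg χa ≠ 1 := fun h => hat ((deg_eq_one_iff hG χa).mp h)
    omega
  have hsum := D.sum_sq_le {(triv : Cfsg.IrrCharacter G), χa} (fun o => by
    simp [D.triv_ne o, (hane o).symm])
  rw [Finset.sum_pair hat.symm, deg_triv, one_pow] at hsum
  have hcardO : Nat.card s.Orb = (p - 1) / 2 := by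
    have := s.card_orb_mul
    rw [he] at this
    omega
  rw [hcardO] at hsum
  refine ⟨deg χa, D.b, δ, D.eps, hδ, D.eps_eq, ha2, hdvda, D.deg_dvd_exceptional o₀ hpb, hmoda,
    hmodb, hdeg, hsum, ?_⟩
  -- the class of involutions
  have hsplit : ∀ F : Cfsg.IrrCharacter G → ℂ,
      (∀ χ, χ ≠ triv → χ ≠ χa → (∀ o, χ ≠ D.f o) → F χ = 0) →
      ∑ χ, F χ = F triv + F χa + ∑ o, F (D.f o) := by
    intro F hF
    have hdisj : Disjoint ({(triv : Cfsg.IrrCharacter G), χa} : Finset _)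
        (Finset.univ.image D.f) := by
      rw [Finset.disjoint_left]
      intro χ hχ hχ'
      obtain ⟨o, -, rfl⟩ := Finset.mem_image.mp hχ'
      simp [D.triv_ne o, (hane o).symm] at hχ
    rw [← Finset.sum_subset (Finset.subset_univ
        ({(triv : Cfsg.IrrCharacter G), χa} ∪ Finset.univ.image D.f)) (fun χ _ hχ => by
      simp only [Finset.mem_union, Finset.mem_insert, Finset.mem_singleton, Finset.mem_image,
        Finset.mem_univ, true_and, not_or, not_exists] at hχ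
      exact hF χ hχ.1.1 hχ.1.2 (fun o h => hχ.2 o h.symm)),
      Finset.sum_union hdisj, Finset.sum_pair hat.symm,
      Finset.sum_image fun a _ b _ h => D.inj h]
  have hzval : ∀ χ : Cfsg.IrrCharacter G, (∀ o, χ ≠ D.f o) →
      (χ : G → ℂ) s.z = -(D.c χ : ℂ) := by
    intro χ hχ
    have h := s.phi_of_const χ (D.c χ) (fun o => by rw [D.vec_eq, if_neg (hχ o), add_zero])
      (one_ne_zero (α := ZMod p))
    have hk : s.kset = {1} := by ext w; simp [s.mem_kset, hK]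
    simpa [phi, hk, s.zp_one] using h
  have hzero : ∀ χ : Cfsg.IrrCharacter G, χ ≠ triv → χ ≠ χa → (∀ o, χ ≠ D.f o) →
      (χ : G → ℂ) s.z = 0 := fun χ h1 h2 h3 => by
    rw [hzval χ h3, hrest χ h1 h2]; simp
  have hza : (χa : G → ℂ) s.z = δ := by rw [hzval χa hane, hca]; simp
  have hdC : ∀ χ : Cfsg.IrrCharacter G, (χ : G → ℂ) 1 = (deg χ : ℂ) := fun χ => (deg_spec χ).2.2
  have hb0 : (D.b : ℂ) ≠ 0 := by
    have h : (0 : ℕ) < D.b := D.deg_f o₀ ▸ (deg_spec _).1
    exact_mod_cast h.ne'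
  have ha0 : (deg χa : ℂ) ≠ 0 := by exact_mod_cast (show deg χa ≠ 0 by omega)
  have hdegC : (1 : ℂ) + δ * (deg χa : ℂ) = (D.eps : ℂ) * D.b := by exact_mod_cast hdeg
  have hepsC : (D.eps : ℂ) * D.eps = 1 := by exact_mod_cast D.eps_sq
  have hδC : (δ : ℂ) * δ = 1 := by rcases hδ with h | h <;> simp [h]
  have hzne : ¬ IsConj s.z 1 := by
    intro h
    have h1 := isConj_one_left.mp h
    exact hp.out.one_lt.ne' (by rw [← s.orderOf_z, h1, orderOf_one])
  -- exceptional values at `z`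
  have hexz : ∑ o, conj ((D.f o : G → ℂ) s.z) = -(D.eps : ℂ) := by
    have h := sum_irr_mul_conj (1 : G) s.z
    rw [classInd_apply_of_not_isConj (fun h => hzne h.symm), mul_zero] at h
    have h' := (mul_eq_zero.mp h).resolve_left (class_card_ne_zero 1)
    rw [hsplit _ (fun χ h1 h2 h3 => by simp [hzero χ h1 h2 h3]), hza,
      Finset.sum_congr rfl (g := fun o => (D.b : ℂ) * conj ((D.f o : G → ℂ) s.z))
        (fun o _ => by rw [hdC, D.deg_f]), ← Finset.mul_sum, hdC χa] at h'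
    simp only [triv, Pi.one_apply, map_one, mul_one, map_intCast] at h'
    apply mul_left_cancel₀ hb0
    linear_combination h' - hdegC
  have hexy : ∀ y : G, y ^ 2 = 1 → ∀ S : ℤ, (χa : G → ℂ) y = S → ∀ o,
      (D.f o : G → ℂ) y = (D.eps : ℂ) * (1 + δ * S) := by
    intro y hy S hS o
    have hyne : ∀ k : ZMod p, k ≠ 0 → ∀ w ∈ s.K, ¬ IsConj y (s.zp k * w) := by
      intro k hk w hw hc
      rw [hK, mem_bot] at hw
      rw [hw, mul_one] at hc
      obtain ⟨g, hg⟩ := isConj_iff.mp hc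
      have h1 : s.zp k ^ 2 = 1 := by rw [← hg, conj_pow, hy]; group
      rw [s.zp_pow, s.zp_eq_one_iff] at h1
      rcases mul_eq_zero.mp h1 with h | h
      · exact hk h
      · have hdvd : p ∣ 2 := (ZMod.natCast_eq_zero_iff 2 p).mp (by exact_mod_cast h)
        have := Nat.le_of_dvd (by norm_num) hdvd
        omega
    have h := D.value_eq hyne o
    rw [hsplit _ (fun χ h1 h2 h3 => by rw [hrest χ h1 h2]; simp), D.c_triv] at h
    simp only [hca, D.c_f, hd, hS, triv, Pi.one_apply, Int.cast_neg, Int.cast_one,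
      Int.cast_zero, mul_zero, Finset.sum_const_zero, add_zero, one_mul] at h
    linear_combination (D.eps : ℂ) * h - (D.f o : G → ℂ) y * hepsC
  have key : ∀ (y : G), y ^ 2 = 1 → ∀ S : ℤ, (χa : G → ℂ) y = S →
      (Nat.card {q : G × G // IsConj y q.1 ∧ IsConj y q.2 ∧ q.1 * q.2 = s.z} : ℤ) *
        (Nat.card G : ℤ) * ((deg χa : ℤ) * (D.b : ℤ) * (δ * D.eps)) =
      ((Subgroup.centralizer ({y} : Set G)).index : ℤ) ^ 2 * ((deg χa : ℤ) - S) ^ 2 := by
    intro y hy S hS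
    have h := card_pairs_mul_card y s.z
    rw [hsplit _ (fun χ h1 h2 h3 => by simp [hzero χ h1 h2 h3]), hza,
      Finset.sum_congr rfl (g := fun o =>
        (((D.eps : ℂ) * (1 + δ * S)) ^ 2 / (D.b : ℂ)) * conj ((D.f o : G → ℂ) s.z))
        (fun o _ => by rw [hexy y hy S hS, hdC, D.deg_f]), ← Finset.mul_sum, hexz, hdC χa, hS] at h
    simp only [triv, Pi.one_apply, map_one, mul_one, map_intCast, one_pow, div_one] at h
    have e : (1 + (S : ℂ) ^ 2 / (deg χa : ℂ) * (δ : ℂ) +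
        ((D.eps : ℂ) * (1 + δ * S)) ^ 2 / (D.b : ℂ) * (-(D.eps : ℂ))) *
          ((deg χa : ℂ) * (D.b : ℂ) * ((δ : ℂ) * (D.eps : ℂ))) =
        ((deg χa : ℂ) - S) ^ 2 := by
      have e1 : (1 + (S : ℂ) ^ 2 / (deg χa : ℂ) * (δ : ℂ) +
        ((D.eps : ℂ) * (1 + δ * S)) ^ 2 / (D.b : ℂ) * (-(D.eps : ℂ))) *
          ((deg χa : ℂ) * (D.b : ℂ) * ((δ : ℂ) * (D.eps : ℂ))) =
        (deg χa : ℂ) * D.b * δ * D.eps + (S : ℂ) ^ 2 * D.b * δ * δ * D.eps -
          ((D.eps : ℂ) * (1 + δ * S)) ^ 2 * (deg χa : ℂ) * δ * (D.eps * D.eps) := by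
        field_simp
        ring
      rw [e1]
      have hδZ := hδ
      rcases hδZ with h1 | h1 <;> rcases D.eps_eq with h2 | h2 <;>
        simp only [h1, h2, Int.cast_one, Int.cast_neg] at hdegC ⊢
      · linear_combination (-((deg χa : ℂ) + (S : ℂ) ^ 2)) * hdegC
      · linear_combination (-((deg χa : ℂ) + (S : ℂ) ^ 2)) * hdegC
      · linear_combination (-(-(deg χa : ℂ) + (S : ℂ) ^ 2)) * hdegC
      · linear_combination (-(-(deg χa : ℂ) + (S : ℂ) ^ 2)) * hdegC
    apply Int.cast_injective (α := ℂ)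
    push_cast
    rw [h, mul_assoc, e]
  obtain ⟨x, hx, hinv⟩ := s.exists_inverting hK (by omega) he
  have hx1 : x ≠ 1 := by
    intro h
    have h1 := hinv 1
    rw [h, one_mul, inv_one, mul_one, s.zp_neg, s.zp_one] at h1
    have h2 : s.z ^ 2 = 1 := by rw [sq]; nth_rewrite 1 [h1]; rw [inv_mul_cancel]
    have h3 := Nat.le_of_dvd (by norm_num) (orderOf_dvd_of_pow_eq_one h2)
    rw [s.orderOf_z] at h3
    omega
  obtain ⟨S, hS, hS1, hS2, hS4⟩ := exists_int_value_four hG χa hx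
  have hSne : ∀ (y : G), y ≠ 1 → ∀ T : ℤ, (χa : G → ℂ) y = T → (deg χa : ℤ) - T ≠ 0 :=
    fun y hy1 T hT h0 => value_ne_deg hat hy1 (by
      rw [hT, show T = (deg χa : ℤ) by omega]; norm_cast)
  have hindex : ∀ y : G, ((Subgroup.centralizer ({y} : Set G)).index : ℤ) ≠ 0 := fun y =>
    Nat.cast_ne_zero.mpr Subgroup.FiniteIndex.index_ne_zero
  -- every involution inverts `z` up to conjugacy
  have hconj : ∀ y : G, y ^ 2 = 1 → y ≠ 1 → IsConj x y := by
    intro y hy hy1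
    obtain ⟨T, hT, -⟩ := exists_int_value_four hG χa hy
    have hk := key y hy T hT
    have hne0 : Nat.card {q : G × G // IsConj y q.1 ∧ IsConj y q.2 ∧ q.1 * q.2 = s.z} ≠ 0 := by
      intro h0
      rw [h0, Nat.cast_zero, zero_mul, zero_mul] at hk
      exact mul_ne_zero (pow_ne_zero 2 (hindex y)) (pow_ne_zero 2 (hSne y hy1 T hT)) hk.symm
    obtain ⟨⟨⟨u, w⟩, hu, hw, huw⟩⟩ : Nonempty
        {q : G × G // IsConj y q.1 ∧ IsConj y q.2 ∧ q.1 * q.2 = s.z} :=
      (Nat.card_ne_zero.mp hne0).1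
    refine (IsConj.trans ?_ hu.symm)
    simp only at hu hw huw
    have hinvol : ∀ {g : G}, IsConj y g → g * g = 1 := by
      intro g hg
      obtain ⟨c, rfl⟩ := isConj_iff.mp hg
      calc c * y * c⁻¹ * (c * y * c⁻¹) = c * (y * y) * c⁻¹ := by group
        _ = 1 := by rw [← sq, hy, mul_one, mul_inv_cancel]
    have huu := hinvol hu
    have hww := hinvol hw
    have hxx : x * x = 1 := by rw [← sq]; exact hx
    have hxi : x⁻¹ = x := inv_eq_of_mul_eq_one_right hxx
    have hz : u * s.z * u = s.z⁻¹ := by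
      rw [← huw, mul_inv_rev, inv_eq_of_mul_eq_one_right huu, inv_eq_of_mul_eq_one_right hww,
        ← mul_assoc u, huu, one_mul]
    have hxz : x * s.z * x = s.z⁻¹ := by
      have h := hinv 1
      rwa [s.zp_neg, s.zp_one, hxi] at h
    have hmem : u * x ∈ centralizer ({s.z} : Set G) := by
      rw [mem_centralizer_singleton_iff]
      calc u * x * s.z = u * (x * s.z * x) * x := by simp [mul_assoc, hxx]
        _ = u * (u * s.z * u) * x := by rw [hxz, hz]
        _ = s.z * (u * x) := by simp [← mul_assoc, huu]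
    obtain ⟨k, v, hv, hk'⟩ := s.exists_of_mem_cent hmem
    rw [hK, mem_bot] at hv
    rw [hv, mul_one] at hk'
    have hu' : u = s.zp k * x := by rw [← hk', mul_assoc, hxx, mul_one]
    refine isConj_iff.mpr ⟨s.zp (k / 2), ?_⟩
    have h2 : (2 : ZMod p) ≠ 0 := by
      intro h
      have hdvd : p ∣ 2 := (ZMod.natCast_eq_zero_iff 2 p).mp (by exact_mod_cast h)
      have := Nat.le_of_dvd (by norm_num) hdvd
      omega
    rw [hu', ← s.zp_neg, mul_assoc, mul_inv_eq_iff_eq_mul.mp (hinv (-(k / 2))), neg_neg,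
      ← mul_assoc, ← s.zp_add]
    congr 2
    field_simp
    ring
  have hsumx := sum_sq_le_card_centralizer
    (insert (triv : Cfsg.IrrCharacter G) (insert χa (Finset.univ.image D.f)))
    (fun χ => if χ = triv then 1 else if χ = χa then S else D.eps * (1 + δ * S)) (w := x)
    (fun χ hχ => by
      simp only [Finset.mem_insert, Finset.mem_image, Finset.mem_univ, true_and] at hχ
      rcases hχ with rfl | rfl | ⟨o, rfl⟩
      · simp [triv]
      · rw [if_neg hat, if_pos rfl]; exact hS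
      · rw [if_neg (D.triv_ne o), if_neg (hane o).symm, hexy x hx S hS o]; push_cast; rfl)
  rw [Finset.sum_insert (by simp [hat.symm, D.triv_ne]), Finset.sum_insert (by
      simpa using fun o h => hane o h.symm),
    Finset.sum_image fun a _ b _ h => D.inj h] at hsumx
  rw [if_pos rfl, if_neg hat, if_pos rfl, Finset.sum_congr rfl (fun o (_ : o ∈ Finset.univ) => by
    rw [if_neg (D.triv_ne o), if_neg (hane o).symm])] at hsumx
  simp only [Finset.sum_const, Finset.card_univ, ← Nat.card_eq_fintype_card, hcardO,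
    nsmul_eq_mul] at hsumx
  have hepsZ := D.eps_sq
  obtain ⟨T, hT, -, -, hT4⟩ := exists_int_value_four hG (D.f o₀) hx
  have hTeq : T = D.eps * (1 + δ * S) := by
    have h := hexy x hx S hS o₀
    rw [hT] at h
    exact_mod_cast h
  rw [D.deg_f, hTeq] at hT4
  have hSlt : S < (deg χa : ℤ) := lt_of_le_of_ne hS2 (fun h => hSne x hx1 S hS (by omega))
  have hk := key x hx S hS
  rw [s.card_pairs hK (by omega) hx hinv] at hk
  have hab : δ * D.eps = 1 := by
    have hpos : (0 : ℤ) ≤ ((Subgroup.centralizer ({x} : Set G)).index : ℤ) ^ 2 *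
        ((deg χa : ℤ) - S) ^ 2 := by positivity
    have hne : ((Subgroup.centralizer ({x} : Set G)).index : ℤ) ^ 2 *
        ((deg χa : ℤ) - S) ^ 2 ≠ 0 :=
      mul_ne_zero (pow_ne_zero 2 (hindex x)) (pow_ne_zero 2 (by omega))
    rcases hδ with h1 | h1 <;> rcases D.eps_eq with h2 | h2 <;> rw [h1, h2] <;>
      first
        | (norm_num; done)
        | (exfalso
           rw [h1, h2] at hk
           have hb1 : (0 : ℤ) ≤ (p : ℤ) * (Nat.card G : ℤ) * ((deg χa : ℤ) * (D.b : ℤ)) := by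
             positivity
           rw [← hk] at hpos hne
           exact hne (le_antisymm (by nlinarith) hpos))
  rw [hab, mul_one] at hk
  refine ⟨x, S, hx, hx1, hconj, hS1, hSlt, hS4, hT4, ?_, hk.symm⟩
  rw [mul_pow, show D.eps ^ 2 = 1 by rw [sq]; exact hepsZ, one_mul] at hsumx
  linarith

end Setup

/-- The involutions for a self-centralising subgroup of prime order with normalizer of order
`2 p`. -/
theorem exists_two_class {G : Type*} [Group G] [Finite G] [IsSimpleGroup G]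
    (hG : ¬ IsMulCommutative G) {p : ℕ} [Fact p.Prime] (hp5 : 5 ≤ p) (P : Subgroup G)
    (hP : Nat.card P = p) (hC : centralizer (P : Set G) = P)
    (hN : Nat.card (normalizer (P : Set G)) = 2 * p) :
    ∃ (a b : ℕ) (δ ε : ℤ), (δ = 1 ∨ δ = -1) ∧ (ε = 1 ∨ ε = -1) ∧ 2 ≤ a ∧
      a ∣ Nat.card G / p ∧ b ∣ Nat.card G / p ∧ (p : ℤ) ∣ (a : ℤ) - δ ∧
      (p : ℤ) ∣ (b : ℤ) - 2 * ε ∧ 1 + δ * a = ε * b ∧
      1 + a ^ 2 + (p - 1) / 2 * b ^ 2 ≤ Nat.card G ∧
      ∃ (x : G) (S : ℤ), x ^ 2 = 1 ∧ x ≠ 1 ∧ (∀ y : G, y ^ 2 = 1 → y ≠ 1 → IsConj x y) ∧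
        -(a : ℤ) ≤ S ∧ S < (a : ℤ) ∧ (4 : ℤ) ∣ (a : ℤ) - S ∧
        (4 : ℤ) ∣ (b : ℤ) - ε * (1 + δ * S) ∧
        1 + S ^ 2 + ((p - 1) / 2 : ℕ) * (1 + δ * S) ^ 2 ≤
          (Nat.card (Subgroup.centralizer ({x} : Set G)) : ℤ) ∧
        ((Subgroup.centralizer ({x} : Set G)).index : ℤ) ^ 2 * ((a : ℤ) - S) ^ 2 =
          (p : ℤ) * (Nat.card G : ℤ) * ((a : ℤ) * (b : ℤ)) := by
  classical
  have := Fintype.ofFinite G
  obtain ⟨s, hK, -, hcard⟩ := exists_setup_of_prime P hP hC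
  rw [hN] at hcard
  have he : Nat.card s.auto = 2 :=
    (Nat.eq_of_mul_eq_mul_right (Fact.out : p.Prime).pos hcard).symm
  have := Fintype.ofFinite s.Orb
  exact s.exists_two_class_aux hG hp5 hK he

end Cfsg.Agent.SmallGroups.SelfCent
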